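import Cfsg.Agent.Lib.SETrans.Basic
import Cfsg.Agent.Lib.CoprimeHHS.FourGen
import Cfsg.Agent.Lib.BrauerSuzuki.Main
import Cfsg.Agent.Lib.OddChar.OddTheorem

/-!
# An element inverted by an involution and fixing a point fixes exactly two points

By downward induction on `Y`: an `l`-group containing such an element does not fix three points.
-/

set_option autoImplicit false
set_option linter.unusedSectionVars false
set_option linter.style.haveILetI false

namespace Cfsg.Agent.SETrans

open MulAction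

universe u

/-- An involution without fixed points preserves no set of odd size. -/
theorem even_of_fpf {α : Type*} [Finite α] (σ : α → α) (h2 : ∀ x, σ (σ x) = x) (hne : ∀ x, σ x ≠ x) :
    Even (Nat.card α) := by
  classical
  haveI : Fact (Nat.Prime 2) := ⟨Nat.prime_two⟩
  letI := Fintype.ofFinite α
  let f : Function.End α := σ
  have hσ : f ^ 2 ^ 1 = 1 := funext fun x => by rw [pow_one, pow_two]; exact h2 x
  have := Equiv.Perm.card_fixedPoints_modEq hσ
  have hempty : Fintype.card (Function.fixedPoints f) = 0 :=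
    Fintype.card_eq_zero_iff.2 ⟨fun x => hne x.1 x.2⟩
  rw [hempty] at this
  rw [Nat.card_eq_fintype_card]
  exact even_iff_two_dvd.2 (Nat.modEq_zero_iff_dvd.1 this)

section RankOne

variable {M : Type u} [Group M] [Finite M]

theorem core_coprime : (Nat.card (Cfsg.pPrimeCore 2 M)).Coprime 2 :=
  haveI : Fact (Nat.Prime 2) := ⟨Nat.prime_two⟩
  FittingCores.pPrimeCore_coprime 2

theorem odd_core : Odd (Nat.card (Cfsg.pPrimeCore 2 M)) :=
  Nat.coprime_two_right.1 core_coprime

/-- In a group of 2-rank one, two involutions agree modulo the odd core. -/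
theorem invol_mul_mem (hR : BrauerSuzuki.RankOne M) {t u : M} (ht : orderOf t = 2) (hu : orderOf u = 2) :
    u * t ∈ Cfsg.pPrimeCore 2 M := by
  have hz := BrauerSuzuki.inZStar M hR t ht
  by_cases he : t = u
  · rw [← he, Invol.mul_self ht]; exact one_mem _
  have hodd : Odd (orderOf (t * u)) := by
    rw [← Nat.not_even_iff_odd]
    intro hev
    have hzo := Invol.half_order ht hu hev (orderOf_pos _)
    have hcm := Invol.half_commute ht hu hev
    exact he ((hR _ _ hzo ht hcm.1).symm.trans (hR _ _ hzo hu hcm.2))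
  obtain ⟨d, -, hd⟩ := Invol.conj_of_odd ht hu hodd
  have := hz d
  rw [hd, Invol.inv_self ht] at this
  exact this

/-- In a group of 2-rank one, an involution normalises a Sylow subgroup for every odd prime. -/
theorem exists_invariant_sylow_of_rankOne (hR : BrauerSuzuki.RankOne M) {t : M} (ht : orderOf t = 2)
    {l : ℕ} [hl : Fact l.Prime] (hl2 : l ≠ 2) (P : Sylow l M) :
    ∃ Q : Sylow l M, t ∈ Subgroup.normalizer ((Q : Subgroup M) : Set M) := by
  classical
  haveI : Fact (Nat.Prime 2) := ⟨Nat.prime_two⟩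
  haveI hn : (Cfsg.pPrimeCore 2 M).Normal := FittingCores.pPrimeCore_normal 2
  set R := Cfsg.pPrimeCore 2 M with hRdef
  set T := (P : Subgroup M) ⊔ R with hT
  have hz := BrauerSuzuki.inZStar M hR t ht
  have hmemT : ∀ g ∈ T, t * g * t⁻¹ ∈ T := by
    intro g hg
    have h1 : g * t * g⁻¹ * t⁻¹ ∈ R := hz g
    rw [show t * g * t⁻¹ = (g * t * g⁻¹ * t⁻¹)⁻¹ * g by group]
    exact mul_mem (inv_mem (Subgroup.mem_sup_right h1)) hg
  have hnorm : Subgroup.zpowers t ≤ Subgroup.normalizer (T : Set M) := by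
    refine Subgroup.zpowers_le.2 (Subgroup.mem_normalizer_iff.2 fun g => ⟨hmemT g, fun hg => ?_⟩)
    have h1 := hmemT _ hg
    rwa [Invol.inv_self ht, show t * (t * g * t) * t = t * t * g * (t * t) by group,
      Invol.mul_self ht, one_mul, mul_one] at h1
  have hTodd : Odd (Nat.card T) := by
    rw [← Nat.not_even_iff_odd]
    intro he
    obtain ⟨v, hv, hv2⟩ := Invol.exists_invol he
    rw [hT, sup_comm] at hv
    have hvR : v ∉ R := fun hm => by
      have h3 := Subgroup.orderOf_dvd_natCard _ hm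
      rw [hv2] at h3
      exact Nat.not_even_iff_odd.2 odd_core (even_iff_two_dvd.2 h3)
    have hmap : (R ⊔ (P : Subgroup M)).map (QuotientGroup.mk' R) = (P : Subgroup M).map (QuotientGroup.mk' R) := by
      rw [Subgroup.map_sup, QuotientGroup.map_mk'_self, bot_sup_eq]
    have hv' : QuotientGroup.mk' R v ∈ (P : Subgroup M).map (QuotientGroup.mk' R) := by
      rw [← hmap]
      exact ⟨v, hv, rfl⟩
    have hne : orderOf (QuotientGroup.mk' R v) = 2 := Invol.order_two_of_sq
      (by rw [← map_mul, Invol.mul_self hv2, map_one])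
      (fun e => hvR ((QuotientGroup.eq_one_iff v).1 e))
    have hp := (P.isPGroup'.map (QuotientGroup.mk' R)) ⟨_, hv'⟩
    obtain ⟨e, he⟩ := hp
    have h5 : orderOf (QuotientGroup.mk' R v) ∣ l ^ e :=
      orderOf_dvd_of_pow_eq_one (congrArg Subtype.val he)
    rw [hne] at h5
    exact hl2 ((Nat.prime_dvd_prime_iff_eq Nat.prime_two hl.out).1 (Nat.prime_two.dvd_of_dvd_pow h5)).symm
  have hcop : (Nat.card (Subgroup.zpowers t)).Coprime (Nat.card T) := by
    rw [Nat.card_zpowers, ht]; exact Nat.coprime_two_left.2 hTodd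
  obtain ⟨Q, hQ⟩ := CoprimeAct.exists_invariant_sylow hnorm hcop
    (Or.inl (Group.isSolvable_of_comm fun u v => mul_comm' u v)) l
  let PT : Sylow l T := P.subtype (le_sup_left : (P : Subgroup M) ≤ T)
  have hcard : Nat.card ((Q : Subgroup T).map T.subtype) = l ^ (Nat.card M).factorization l := by
    rw [Subgroup.card_map_of_injective T.subtype_injective, Q.card_eq_multiplicity,
      ← PT.card_eq_multiplicity, ← P.card_eq_multiplicity]
    exact Nat.card_congr (Subgroup.subgroupOfEquivOfLe (le_sup_left : (P : Subgroup M) ≤ T)).toEquiv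
  refine ⟨Sylow.ofCard _ hcard, ?_⟩
  rw [Sylow.coe_ofCard]
  exact hQ (Subgroup.mem_zpowers t)

end RankOne

section Main

variable {G : Type u} {Ω : Type*} [Group G] [MulAction G Ω] {a : Ω}
variable [Finite G] [IsPretransitive G Ω] [Nontrivial Ω]

omit [Finite G] [IsPretransitive G Ω] [Nontrivial Ω] in
theorem fix_of_mem_normalizer {Y : Subgroup G} {g : G} (hg : g ∈ Subgroup.normalizer (Y : Set G)) {x : Ω}
    (hx : ∀ y ∈ Y, y • x = x) : ∀ y ∈ Y, y • g • x = g • x := by
  intro y hy
  have h1 : g⁻¹ * y * g ∈ Y := by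
    have := (Subgroup.mem_normalizer_iff.1 (inv_mem hg) y).1 hy
    rwa [inv_inv] at this
  have := hx _ h1
  rw [mul_smul, mul_smul, inv_smul_eq_iff] at this
  exact this

omit [IsPretransitive G Ω] [Nontrivial Ω] in
theorem fix_both_of_odd {g : G} {p q : Ω} (hg : Odd (orderOf g)) (hgp : g • p = q) (hgq : g • q = p) :
    g • p = p := by
  have h2 : g ^ 2 ∈ stabilizer G p := by
    rw [mem_stabilizer_iff, pow_two, mul_smul, hgp, hgq]
  obtain ⟨r, hr⟩ := Invol.exists_sqrt hg
  have h3 : (g ^ 2) ^ r ∈ stabilizer G p := pow_mem h2 r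
  rw [← pow_mul, mul_comm, pow_mul, hr] at h3
  exact h3

/-- The fixed points of a maximal such group. -/
theorem Weak.no_three_step (h : Weak G Ω a) {l : ℕ} [hl : Fact l.Prime] {Y : Subgroup G}
    (hY : IsPGroup l Y) {k : G} (hkY : k ∈ Y) (hk : Mov G Ω k)
    (ih : ∀ Z : Subgroup G, Y < Z → IsPGroup l Z → ∀ p q r : Ω, (∀ z ∈ Z, z • p = p) →
      (∀ z ∈ Z, z • q = q) → (∀ z ∈ Z, z • r = r) → p ≠ q → q ≠ r → p ≠ r → False)
    {p q r : Ω} (hp : ∀ y ∈ Y, y • p = p) (hq : ∀ y ∈ Y, y • q = q) (hr : ∀ y ∈ Y, y • r = r)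
    (hpq : p ≠ q) (hqr : q ≠ r) (hpr : p ≠ r) : False := by
  classical
  haveI : Fact (Nat.Prime 2) := ⟨Nat.prime_two⟩
  haveI : Finite Ω := finite_points G a
  have hl2 : l ≠ 2 := fun e => by
    obtain ⟨j, hj⟩ := hY ⟨k, hkY⟩
    have h1 : orderOf k ∣ l ^ j := orderOf_dvd_of_pow_eq_one (congrArg Subtype.val hj)
    obtain ⟨i, -, hi⟩ := (Nat.dvd_prime_pow hl.out).1 h1
    have h2 := hk.2.1
    rw [hi, e, Nat.odd_pow_iff (fun e0 => hk.1 (orderOf_eq_one_iff.1 (by rw [hi, e0, pow_zero])))] at h2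
    exact absurd h2 (by decide)
  set M := Subgroup.normalizer (Y : Set G) with hM
  set R : Subgroup G := (Cfsg.pPrimeCore 2 M).map M.subtype with hRdef
  -- the centre of an involution of M is not fixed by Y
  have hcentre : ∀ w ∈ M, orderOf w = 2 → ∀ e : Ω, w • e = e → (∀ y ∈ Y, y • e = e) → False := by
    intro w hwM hw e hwe hYe
    have hwy : ∀ y ∈ Y, y⁻¹ * (w * y * w⁻¹) = 1 := by
      intro y hy
      have hmem : y⁻¹ * (w * y * w⁻¹) ∈ Y :=
        mul_mem (inv_mem hy) ((Subgroup.mem_normalizer_iff.1 hwM y).1 hy)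
      by_contra hne
      obtain ⟨x, hxe, hxY⟩ : ∃ x, x ≠ e ∧ ∀ z ∈ Y, z • x = x := by
        by_cases hpe : p = e
        · exact ⟨q, fun e' => hpq (hpe.trans e'.symm), hq⟩
        · exact ⟨p, hpe, hp⟩
      refine h.centre_moved hw ?_ ?_ hne hwe (hxY _ hmem)
        (fun e' => hxe (h.fix_unique w hw x e e' hwe)) (hYe _ hmem)
      · rw [mul_inv_rev, inv_inv, Invol.inv_self hw]
        calc w * (y⁻¹ * (w * y * w)) * w = w * y⁻¹ * w * y * (w * w) := by group
          _ = (w * y * w)⁻¹ * y := by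
            rw [Invol.mul_self hw, mul_one, mul_inv_rev, mul_inv_rev, Invol.inv_self hw]; group
      · obtain ⟨j, hj⟩ := hY ⟨_, hmem⟩
        exact ((hl.out.odd_of_ne_two hl2).pow).of_dvd_nat
          (orderOf_dvd_of_pow_eq_one (congrArg Subtype.val hj))
    refine h.no_invol hk hw ?_
    have h1 := hwy k hkY
    rw [inv_mul_eq_one] at h1
    calc w * k = w * k * w⁻¹ * w := by group
      _ = k * w := by rw [← h1]
  -- M has 2-rank one
  have hrank : BrauerSuzuki.RankOne M := by
    intro u v hu hv huv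
    by_contra hne
    rw [← orderOf_injective M.subtype M.subtype_injective u] at hu
    rw [← orderOf_injective M.subtype M.subtype_injective v] at hv
    change orderOf (u : G) = 2 at hu
    change orderOf (v : G) = 2 at hv
    have huv' : (u : G) * v = v * u := congrArg Subtype.val huv.eq
    have huv2 : orderOf ((u : G) * v) = 2 := Invol.order_two_of_sq
      (by rw [show (u : G) * v * (u * v) = u * (v * u) * v by group, ← huv',
        show (u : G) * (u * v) * v = u * u * (v * v) by group, Invol.mul_self hu, Invol.mul_self hv, one_mul])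
      (fun e => hne (Subtype.ext (by rw [← mul_one (u : G), ← Invol.mul_self hv, ← mul_assoc, e, one_mul])))
    obtain ⟨e, he⟩ := h.exists_fix hu
    have hve : (v : G) • e = e :=
      h.fix_unique _ hu _ _ (by rw [← mul_smul, huv', mul_smul, he]) he
    have huve : ((u : G) * v) • e = e := by rw [mul_smul, hve, he]
    refine hcentre u u.2 hu e he fun y hy => ?_
    have hcent : ∀ w : G, orderOf w = 2 → w • e = e → ∀ x ∈ Y, w * x = x * w → x ∈ Y ⊓ stabilizer G e :=
      fun w hw hwe x hx hc => Subgroup.mem_inf.2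
        ⟨hx, h.fix_unique w hw _ _ (by rw [← mul_smul, hc, mul_smul, hwe]) hwe⟩
    have hnorm : ∀ w ∈ M, w • e = e → w ∈ Subgroup.normalizer ((Y ⊓ stabilizer G e : Subgroup G) : Set G) :=
      fun w hw hwe => Subgroup.inf_normalizer_le_normalizer_inf
        (Subgroup.mem_inf.2 ⟨hw, Subgroup.le_normalizer (mem_stabilizer_iff.2 hwe)⟩)
    exact (Subgroup.mem_inf.1 (CoprimeHHS.le_of_involutions hl2 hY (Invol.mul_self hu) (Invol.mul_self hv)
      huv' u.2 v.2 (hnorm _ u.2 he) (hnorm _ v.2 hve) inf_le_left (hcent _ hu he) (hcent _ hv hve)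
      (hcent _ huv2 huve) hy)).2
  have hRM : R ≤ M := Subgroup.map_subtype_le _
  have hRodd : Odd (Nat.card R) := by
    rw [hRdef, Subgroup.card_map_of_injective M.subtype_injective]; exact odd_core
  have hcong : ∀ w ∈ M, ∀ w' ∈ M, orderOf w = 2 → orderOf w' = 2 → w' * w ∈ R := by
    intro w hw w' hw' ho ho'
    exact ⟨⟨w', hw'⟩ * ⟨w, hw⟩, invol_mul_mem hrank (by rwa [Subgroup.orderOf_mk])
      (by rwa [Subgroup.orderOf_mk]), rfl⟩
  -- an involution moves every point of F out of its R-orbit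
  have hsep : ∀ w ∈ M, orderOf w = 2 → ∀ x : Ω, (∀ y ∈ Y, y • x = x) → ∀ g ∈ R, g • x ≠ w • x := by
    intro w hw ho x hx g hg he
    haveI hn : (Cfsg.pPrimeCore 2 M).Normal := FittingCores.pPrimeCore_normal 2
    have hwR : ∀ c ∈ R, w * c * w⁻¹ ∈ R := by
      rintro _ ⟨c, hc, rfl⟩
      exact ⟨_, hn.conj_mem c hc ⟨w, hw⟩, rfl⟩
    have hO : ∀ o ∈ orbit R x, w • o ∈ orbit R x := by
      rintro _ ⟨⟨c, hc⟩, rfl⟩
      refine ⟨⟨w * c * w⁻¹ * g, mul_mem (hwR c hc) hg⟩, ?_⟩
      show (w * c * w⁻¹ * g) • x = w • c • x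
      rw [mul_smul, he, mul_smul, mul_smul, inv_smul_smul]
    refine Nat.not_even_iff_odd.2 (hRodd.of_dvd_nat ?_)
      (even_of_fpf (fun o : orbit R x => (⟨w • o.1, hO _ o.2⟩ : orbit R x)) (fun o => Subtype.ext ?_)
        (fun o e => ?_))
    · rw [Nat.card_coe_set_eq, ← index_stabilizer]
      exact (stabilizer R x).index_dvd_card
    · show w • w • o.1 = o.1
      rw [← mul_smul, Invol.mul_self ho, one_smul]
    · obtain ⟨⟨c, hc⟩, hco⟩ := o.2
      refine hcentre w hw ho o.1 (congrArg Subtype.val e) ?_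
      rw [← hco]
      exact fix_of_mem_normalizer (hRM hc) hx
  -- the pairs of F
  have hdich : ∀ x y : Ω, (∀ z ∈ Y, z • x = x) → (∀ z ∈ Y, z • y = y) → x ≠ y →
      (∃ w ∈ M, orderOf w = 2 ∧ w • x = y) ∨ ∃ P : Sylow l M,
        Y ≤ (P : Subgroup M).map M.subtype ∧ (∀ g ∈ (P : Subgroup M), (g : G) • x = x ∧ (g : G) • y = y) ∧
        ∀ z : Ω, (∀ g ∈ (P : Subgroup M), (g : G) • z = z) → z = x ∨ z = y := by
    intro x y hx hy hxy
    set D := stabilizer G x ⊓ stabilizer G y with hD
    have hYD : Y ≤ D := fun z hz => Subgroup.mem_inf.2 ⟨hx z hz, hy z hz⟩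
    obtain ⟨Z, hYZ, ⟨hZp, hZD⟩, hZmax⟩ := Finite.exists_le_maximal
      (p := fun S : Subgroup G => IsPGroup l S ∧ S ≤ M ⊓ D) ⟨hY, le_inf Subgroup.le_normalizer hYD⟩
    have hZD' : Z ≤ D := hZD.trans inf_le_right
    rcases eq_or_lt_of_le hYZ with e | hlt
    · left
      subst e
      -- Y is a Sylow subgroup of D
      have hmax : ∀ Q : Subgroup G, IsPGroup l Q → Q ≤ D → Y ≤ Q → Q = Y := by
        intro Q hQ hQD hYQ
        by_contra hne
        haveI := hQ.isNilpotent
        have h1 := Group.normalizerCondition_of_isNilpotent (Y.subgroupOf Q) (lt_top_iff_ne_top.2 fun e =>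
          hne (le_antisymm (Subgroup.subgroupOf_eq_top.1 e) hYQ))
        refine not_le_of_gt h1 fun g hg => ?_
        have hgM : (g : G) ∈ M := by
          rw [hM, Subgroup.mem_normalizer_iff]
          intro z
          refine ⟨fun hz => (Subgroup.mem_normalizer_iff.1 hg ⟨z, hYQ hz⟩).1 hz, fun hz => ?_⟩
          have hzQ : z ∈ Q := by
            have h2 := mul_mem (mul_mem (inv_mem g.2) (hYQ hz)) g.2
            simpa [mul_assoc] using h2
          exact (Subgroup.mem_normalizer_iff.1 hg ⟨z, hzQ⟩).2 hz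
        exact hZmax (y := Q ⊓ M) ⟨hQ.to_le inf_le_left, le_inf inf_le_right (inf_le_left.trans hQD)⟩
          (le_inf hYQ Subgroup.le_normalizer) ⟨g.2, hgM⟩
      let PY : Sylow l D :=
        { toSubgroup := Y.subgroupOf D
          isPGroup' := hY.comap_subtype
          is_maximal' := fun {Q} hQ hle => by
            have h1 := hmax _ (hQ.map D.subtype) (Subgroup.map_subtype_le _) (by
              intro z hz; exact ⟨⟨z, hYD hz⟩, hle hz, rfl⟩)
            ext z
            rw [Subgroup.mem_subgroupOf, ← h1]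
            exact ⟨fun hz => ⟨z, hz, rfl⟩, fun ⟨z', hz', e'⟩ => Subtype.ext e' ▸ hz'⟩ }
      obtain ⟨s, hs, hsx⟩ := h.exists_swap hxy
      have hsD : ∀ {d : G}, d ∈ D → s * d * s⁻¹ ∈ D := fun hd => Weak.swap_pair hs hsx hd
      let σ : D ≃* D :=
        { toFun := fun d => ⟨s * d * s⁻¹, hsD d.2⟩
          invFun := fun d => ⟨s * d * s⁻¹, hsD d.2⟩
          left_inv := fun d => Subtype.ext (by
            show s * (s * d * s⁻¹) * s⁻¹ = d
            rw [Invol.inv_self hs, show s * (s * d * s) * s = s * s * (d : G) * (s * s) by group,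
              Invol.mul_self hs, one_mul, mul_one])
          right_inv := fun d => Subtype.ext (by
            show s * (s * d * s⁻¹) * s⁻¹ = d
            rw [Invol.inv_self hs, show s * (s * d * s) * s = s * s * (d : G) * (s * s) by group,
              Invol.mul_self hs, one_mul, mul_one])
          map_mul' := fun d e => Subtype.ext (by
            show s * ((d : G) * e) * s⁻¹ = s * d * s⁻¹ * (s * e * s⁻¹)
            group) }
      obtain ⟨d, hd⟩ := exists_smul_eq D (PY.comapOfInjective σ.toMonoidHom σ.injective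
        (by rw [σ.toMonoidHom.range_eq_top.2 σ.surjective]; exact le_top)) PY
      set g := s * (d : G)⁻¹ with hg
      have hgYle : ∀ z ∈ Y, g * z * g⁻¹ ∈ Y := by
        intro z hz
        have h1 : (⟨z, hYD hz⟩ : D) ∈ (PY : Subgroup D) := hz
        rw [← hd, Sylow.coe_subgroup_smul, Subgroup.mem_pointwise_smul_iff_inv_smul_mem] at h1
        simpa [σ, g, mul_assoc, PY, Subgroup.mem_subgroupOf] using h1
      have hgM : g ∈ M := by
        have heq : Y.map (MulAut.conj g).toMonoidHom = Y :=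
          Subgroup.eq_of_le_of_card_ge (by rintro _ ⟨z, hz, rfl⟩; exact hgYle z hz)
            (Subgroup.card_map_of_injective (MulAut.conj g).injective).ge
        rw [hM, Subgroup.mem_normalizer_iff]
        refine fun z => ⟨hgYle z, fun hz => ?_⟩
        rw [← heq] at hz
        obtain ⟨z', hz', e⟩ := hz
        rwa [← (MulAut.conj g).injective e]
      obtain ⟨hd1, hd2⟩ := Subgroup.mem_inf.1 d.2
      rw [mem_stabilizer_iff] at hd1 hd2
      have hgx : g • x = y := by rw [hg, mul_smul, inv_smul_eq_iff.2 hd1.symm, hsx]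
      have hgy : g • y = x := by rw [hg, mul_smul, inv_smul_eq_iff.2 hd2.symm, Weak.swap_back hs hsx]
      obtain ⟨i, u, hu, hiu⟩ := Nat.exists_eq_two_pow_mul_odd (orderOf_pos g).ne'
      have hwx : g ^ u • x = y := by
        obtain ⟨j, rfl⟩ := hu
        have h2 : (g ^ 2) ∈ stabilizer G x := by rw [mem_stabilizer_iff, pow_two, mul_smul, hgx, hgy]
        rw [pow_succ', pow_mul, mul_smul, mem_stabilizer_iff.1 (pow_mem h2 j), hgx]
      refine ⟨g ^ u, pow_mem hgM u, ?_, hwx⟩
      refine Invol.order_two_of_sq ?_ (fun e => hxy (by rw [← hwx, e, one_smul]))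
      have h3 : g ^ u * g ^ u ∈ D := by
        have h2 : g * g ∈ D := Subgroup.mem_inf.2 ⟨by rw [mem_stabilizer_iff, mul_smul, hgx, hgy],
          by rw [mem_stabilizer_iff, mul_smul, hgy, hgx]⟩
        have h4 := pow_mem h2 u
        rwa [← pow_two, ← pow_mul, mul_comm, pow_mul, pow_two] at h4
      have h5 : orderOf (g ^ u * g ^ u) ∣ 2 ^ i := by
        apply orderOf_dvd_of_pow_eq_one
        rw [← pow_add, ← pow_mul, show (u + u) * 2 ^ i = (2 ^ i * u) * 2 by ring, ← hiu, pow_mul,
          pow_orderOf_eq_one, one_pow]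
      exact orderOf_eq_one_iff.1 (Nat.eq_one_of_dvd_coprimes
        ((Nat.coprime_two_left.2 (h.odd_pair hxy)).pow_left i) h5 (Subgroup.orderOf_dvd_natCard D h3))
    · right
      have hfix : ∀ z : Ω, (∀ g ∈ Z, g • z = z) → z = x ∨ z = y := by
        intro z hz
        by_contra hc
        push Not at hc
        exact ih Z hlt hZp x y z (fun g hg => (Subgroup.mem_inf.1 (hZD' hg)).1)
          (fun g hg => (Subgroup.mem_inf.1 (hZD' hg)).2) hz hxy hc.2.symm hc.1.symm
      have hmax : ∀ Q : Subgroup G, IsPGroup l Q → Q ≤ M → Z ≤ Q → Q = Z := by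
        intro Q hQ hQM hZQ
        by_contra hne
        haveI := hQ.isNilpotent
        have h1 := Group.normalizerCondition_of_isNilpotent (Z.subgroupOf Q) (lt_top_iff_ne_top.2 fun e =>
          hne (le_antisymm (Subgroup.subgroupOf_eq_top.1 e) hZQ))
        refine not_le_of_gt h1 fun g hg => ?_
        have hgN : (g : G) ∈ Subgroup.normalizer (Z : Set G) := by
          rw [Subgroup.mem_normalizer_iff]
          intro z
          refine ⟨fun hz => (Subgroup.mem_normalizer_iff.1 hg ⟨z, hZQ hz⟩).1 hz, fun hz => ?_⟩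
          have hzQ : z ∈ Q := by
            have h2 := mul_mem (mul_mem (inv_mem g.2) (hZQ hz)) g.2
            simpa [mul_assoc] using h2
          exact (Subgroup.mem_normalizer_iff.1 hg ⟨z, hzQ⟩).2 hz
        have hgo : Odd (orderOf (g : G)) := by
          obtain ⟨j, hj⟩ := hQ g
          exact ((hl.out.odd_of_ne_two hl2).pow).of_dvd_nat
            (orderOf_dvd_of_pow_eq_one (congrArg Subtype.val hj))
        have hgx := hfix _ (fix_of_mem_normalizer hgN (fun z hz => (Subgroup.mem_inf.1 (hZD' hz)).1))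
        have hgy := hfix _ (fix_of_mem_normalizer hgN (fun z hz => (Subgroup.mem_inf.1 (hZD' hz)).2))
        have hx' : (g : G) • x = x := hgx.elim id fun e => fix_both_of_odd hgo e
          (hgy.elim id fun e' => absurd (MulAction.injective (g : G) (e.trans e'.symm)) hxy)
        have hy' : (g : G) • y = y := hgy.elim
          (fun e => absurd (MulAction.injective (g : G) (hx'.trans e.symm)) hxy) id
        exact hZmax (y := Q ⊓ (M ⊓ D)) ⟨hQ.to_le inf_le_left, inf_le_right⟩ (le_inf hZQ hZD)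
          ⟨g.2, hQM g.2, hx', hy'⟩
      refine ⟨{ toSubgroup := Z.subgroupOf M
                isPGroup' := hZp.comap_subtype
                is_maximal' := fun {Q} hQ hle => ?_ }, ?_, ?_, ?_⟩
      · have h1 := hmax _ (hQ.map M.subtype) (Subgroup.map_subtype_le _) (by
          intro z hz; exact ⟨⟨z, (hZD hz).1⟩, hle hz, rfl⟩)
        ext z
        rw [Subgroup.mem_subgroupOf, ← h1]
        exact ⟨fun hz => ⟨z, hz, rfl⟩, fun ⟨z', hz', e'⟩ => Subtype.ext e' ▸ hz'⟩
      · intro z hz
        exact ⟨⟨z, (hZD (hYZ hz)).1⟩, hYZ hz, rfl⟩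
      · exact fun g hg => Subgroup.mem_inf.1 (hZD' hg)
      · exact fun z hz => hfix z fun g hg => hz ⟨g, (hZD hg).1⟩ hg
  by_cases hinv : ∃ t ∈ M, orderOf t = 2
  · -- every pair is swapped
    obtain ⟨t, htM, ht⟩ := hinv
    have hcross : ∀ x y : Ω, (∀ z ∈ Y, z • x = x) → (∀ z ∈ Y, z • y = y) → x ≠ y →
        ∃ w ∈ M, orderOf w = 2 ∧ w • x = y := by
      intro x y hx hy hxy
      refine (hdich x y hx hy hxy).elim id fun ⟨P, hYP, hPfix, hPonly⟩ => ?_
      obtain ⟨Q, hQ⟩ := exists_invariant_sylow_of_rankOne (t := (⟨t, htM⟩ : M)) hrank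
        (by rwa [Subgroup.orderOf_mk]) hl2 P
      obtain ⟨m, hm⟩ := exists_smul_eq M P Q
      set u := (m : G)⁻¹ * t * m with hu
      have hu2 : orderOf u = 2 := by
        rw [hu, show (m : G)⁻¹ * t * m = (m : G)⁻¹ * t * (m : G)⁻¹⁻¹ by group, Invol.order_conj, ht]
      have huM : u ∈ M := mul_mem (mul_mem (inv_mem m.2) htM) m.2
      have huP : ∀ g ∈ (P : Subgroup M), (⟨u, huM⟩ : M)⁻¹ * g * ⟨u, huM⟩ ∈ (P : Subgroup M) := by
        intro g hg
        have h1 : m * g * m⁻¹ ∈ (Q : Subgroup M) := by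
          rw [← hm, Sylow.coe_subgroup_smul, Subgroup.mem_pointwise_smul_iff_inv_smul_mem]
          simpa [mul_assoc] using hg
        have h2 := (Subgroup.mem_normalizer_iff.1 (inv_mem hQ) _).1 h1
        rw [← hm, Sylow.coe_subgroup_smul, Subgroup.mem_pointwise_smul_iff_inv_smul_mem] at h2
        rw [show (⟨u, huM⟩ : M) = m⁻¹ * ⟨t, htM⟩ * m from Subtype.ext (by simp [hu])]
        simpa [mul_assoc] using h2
      have hux : ∀ g ∈ (P : Subgroup M), (g : G) • u • x = u • x := by
        intro g hg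
        have h2 := (hPfix _ (huP g hg)).1
        simp only [Subgroup.coe_mul, Subgroup.coe_inv, mul_smul, inv_smul_eq_iff] at h2
        exact h2
      refine ⟨u, huM, hu2, (hPonly _ hux).resolve_left fun e => ?_⟩
      exact hcentre u huM hu2 x e hx
    obtain ⟨w, hw, hw2, hwq⟩ := hcross p q hp hq hpq
    obtain ⟨w', hw', hw2', hwr⟩ := hcross p r hp hr hpr
    obtain ⟨w'', hw'', hw2'', hwqr⟩ := hcross q r hq hr hqr
    refine hsep w'' hw'' hw2'' q hq (w' * w) (hcong w hw w' hw' hw2 hw2') ?_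
    rw [mul_smul, Weak.swap_back hw2 hwq, hwr, hwqr]
  · -- M has odd order
    push Not at hinv
    have hexact := fun x y hx hy hxy => (hdich x y hx hy hxy).resolve_left
      fun ⟨w, hw, hw2, _⟩ => hinv w hw hw2
    have hodd : Odd (Nat.card M) := by
      rw [← Nat.not_even_iff_odd]
      intro he
      obtain ⟨w, hw, hw2⟩ := Invol.exists_invol he
      exact hinv w hw hw2
    haveI hsol : Group.IsSolvable M := OddChar.oddSolvable M hodd
    let Triv : ℕ → Prop := fun i => ∀ g ∈ derivedSeries M i, ∀ x : Ω, (∀ z ∈ Y, z • x = x) → (g : G) • x = x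
    have hex : ∃ i, Triv i := by
      obtain ⟨i, hi⟩ := (Group.isSolvable_def (G := M)).1 hsol
      exact ⟨i, fun g hg x _ => by rw [hi, Subgroup.mem_bot] at hg; rw [hg, Subgroup.coe_one, one_smul]⟩
    obtain ⟨P₁, -, hP₁, hP₁only⟩ := hexact p q hp hq hpq
    have h0 : ¬ Triv 0 := fun h0 => (hP₁only r fun g _ => h0 g
      (by rw [derivedSeries_zero]; exact Subgroup.mem_top g) r hr).elim hpr.symm hqr.symm
    obtain ⟨i, hi⟩ : ∃ i, Nat.find hex = i + 1 :=
      Nat.exists_eq_succ_of_ne_zero fun e => h0 (e ▸ Nat.find_spec hex)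
    set A := derivedSeries M i with hA
    haveI hAn : A.Normal := derivedSeries_normal M i
    have hnot : ¬ Triv i := Nat.find_min hex (by omega)
    have hcommA : ∀ α ∈ A, ∀ β ∈ A, ∀ x : Ω, (∀ z ∈ Y, z • x = x) →
        (α : G) • (β : G) • x = (β : G) • (α : G) • x := by
      intro α hα β hβ x hx
      have hmem : α⁻¹ * β⁻¹ * α * β ∈ derivedSeries M (i + 1) := by
        rw [derivedSeries_succ]
        have h1 := Subgroup.commutator_mem_commutator (inv_mem hα) (inv_mem hβ)
        simpa [commutatorElement_def] using h1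
      have h2 := (Nat.find_spec hex) _ (hi ▸ hmem) x hx
      simp only [Subgroup.coe_mul, Subgroup.coe_inv, mul_smul, inv_smul_eq_iff] at h2
      exact h2
    simp only [Triv, not_forall] at hnot
    obtain ⟨α, hα, x, hx, hαx⟩ := hnot
    -- A is transitive
    have htrans : ∀ u v : Ω, (∀ z ∈ Y, z • u = u) → (∀ z ∈ Y, z • v = v) →
        ∃ β ∈ A, (β : G) • u = v := by
      intro u v hu hv
      by_cases huv : u = v
      · exact ⟨1, one_mem _, by rw [Subgroup.coe_one, one_smul, huv]⟩
      obtain ⟨P₂, -, -, hP₂⟩ := hexact x _ hx (fix_of_mem_normalizer α.2 hx) (Ne.symm hαx)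
      obtain ⟨P₃, -, hP₃, -⟩ := hexact u v hu hv huv
      obtain ⟨m, hm⟩ := exists_smul_eq M P₃ P₂
      have key : ∀ z : Ω, (∀ g ∈ (P₃ : Subgroup M), (g : G) • z = z) →
          ∀ g ∈ (P₂ : Subgroup M), (g : G) • (m : G) • z = (m : G) • z := by
        intro z hz g hg
        rw [← hm, Sylow.coe_subgroup_smul, Subgroup.mem_pointwise_smul_iff_inv_smul_mem] at hg
        have h2 := hz _ hg
        simp only [MulAut.smul_def, MulAut.inv_apply, MulAut.conj_symm_apply, Subgroup.coe_mul,
          Subgroup.coe_inv, mul_smul, inv_smul_eq_iff] at h2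
        exact h2
      have hmu := hP₂ _ (key u fun g hg => (hP₃ g hg).1)
      have hmv := hP₂ _ (key v fun g hg => (hP₃ g hg).2)
      have hne : (m : G) • u ≠ (m : G) • v := fun e => huv (MulAction.injective (m : G) e)
      rcases hmu with e1 | e1 <;> rcases hmv with e2 | e2
      · exact absurd (e1.trans e2.symm) hne
      · refine ⟨m⁻¹ * α * m, by simpa using hAn.conj_mem α hα m⁻¹, ?_⟩
        rw [Subgroup.coe_mul, Subgroup.coe_mul, Subgroup.coe_inv, mul_smul, mul_smul, e1, ← e2,
          inv_smul_smul]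
      · refine ⟨m⁻¹ * α⁻¹ * m, by simpa using hAn.conj_mem α⁻¹ (inv_mem hα) m⁻¹, ?_⟩
        rw [Subgroup.coe_mul, Subgroup.coe_mul, Subgroup.coe_inv, Subgroup.coe_inv, mul_smul, mul_smul,
          e1, inv_smul_smul, ← e2, inv_smul_smul]
      · exact absurd (e1.trans e2.symm) hne
    obtain ⟨n, hn, hnp⟩ := htrans p q hp hq
    have hnq : ∀ g ∈ (P₁ : Subgroup M), (g : G) • (n : G) • q = (n : G) • q := by
      intro g hg
      obtain ⟨hgp, hgq⟩ := hP₁ g hg
      have hn' : g * n * g⁻¹ ∈ A := hAn.conj_mem n hn g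
      set n' := g * n * g⁻¹ with hn'def
      have e1 : (n' : G) • p = q := by
        rw [hn'def, Subgroup.coe_mul, Subgroup.coe_mul, Subgroup.coe_inv, mul_smul, mul_smul,
          inv_smul_eq_iff.2 hgp.symm, hnp, hgq]
      have e2 : (n' : G) • q = (n : G) • q := by
        calc (n' : G) • q = (n' : G) • (n : G) • p := by rw [hnp]
          _ = (n : G) • (n' : G) • p := hcommA _ hn' _ hn p hp
          _ = (n : G) • q := by rw [e1]
      calc (g : G) • (n : G) • q = (n' : G) • q := by
            rw [hn'def, Subgroup.coe_mul, Subgroup.coe_mul, Subgroup.coe_inv, mul_smul, mul_smul,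
              inv_smul_eq_iff.2 hgq.symm]
        _ = (n : G) • q := e2
    rcases hP₁only _ hnq with e | e
    · have hno : Odd (orderOf (n : G)) := hodd.of_dvd_nat (Subgroup.orderOf_dvd_natCard M n.2)
      exact hpq ((fix_both_of_odd hno hnp e).symm.trans hnp)
    · exact hpq (MulAction.injective (n : G) (hnp.trans e.symm))

/-- No `l`-subgroup containing an element `Mov` fixes three points. -/
theorem Weak.no_three (h : Weak G Ω a) {l : ℕ} [Fact l.Prime] :
    ∀ Y : Subgroup G, IsPGroup l Y → (∃ k ∈ Y, Mov G Ω k) → ∀ p q r : Ω, (∀ y ∈ Y, y • p = p) →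
      (∀ y ∈ Y, y • q = q) → (∀ y ∈ Y, y • r = r) → p ≠ q → q ≠ r → p ≠ r → False := by
  intro Y
  induction hn : Nat.card G - Nat.card Y using Nat.strong_induction_on generalizing Y with
  | _ n ih =>
    intro hY ⟨k, hkY, hk⟩ p q r hp hq hr hpq hqr hpr
    refine h.no_three_step hY hkY hk (fun Z hZ hZp p q r => ?_) hp hq hr hpq hqr hpr
    refine ih (Nat.card G - Nat.card Z) ?_ Z rfl hZp ⟨k, hZ.le hkY, hk⟩ p q r
    have h1 : Nat.card Y < Nat.card Z := Set.ncard_lt_ncard (SetLike.coe_ssubset_coe.2 hZ) |>.trans_le' (le_of_eq (Nat.card_coe_set_eq _)) |>.trans_le (le_of_eq (Nat.card_coe_set_eq _).symm)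
    have h2 : Nat.card Z ≤ Nat.card G := Z.card_le_card_group
    omega

end Main

end Cfsg.Agent.SETrans
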