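import Cfsg.Agent.Lib.SETrans.Pair

/-!
# Double transitivity when the involutions fixing a point commute

A transitive group in which every involution fixes at most one point and the involutions fixing a point
commute (and are at least two) is doubly transitive.
-/

set_option autoImplicit false
set_option linter.unusedSectionVars false
set_option linter.style.haveILetI false

namespace Cfsg.Agent.SETrans

open MulAction

universe u

variable {G : Type u} {Ω : Type*} [Group G] [MulAction G Ω] {a : Ω}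
variable [Finite G] [IsPretransitive G Ω] [Nontrivial Ω]

namespace Weak

/-- An element `Mov` fixes at most two points. -/
theorem fix_pair (h : Weak G Ω a) {k : G} (hk : Mov G Ω k) {p q r : Ω} (hp : k • p = p) (hq : k • q = q)
    (hr : k • r = r) (hpq : p ≠ q) : r = p ∨ r = q := by
  by_contra hc
  push Not at hc
  obtain ⟨hk1, hko, t, x₀, ht, htk, hx₀, htx₀⟩ := hk
  obtain ⟨l, hl, hdvd⟩ := Nat.exists_prime_and_dvd (mt orderOf_eq_one_iff.1 hk1)
  haveI := Fact.mk hl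
  set k' := k ^ (orderOf k / l) with hk'
  have ho : orderOf k' = l := orderOf_pow_orderOf_div (orderOf_pos k).ne' hdvd
  have hfix : ∀ {x : Ω}, k • x = x → k' • x = x := fun {x} hx =>
    mem_stabilizer_iff.1 (pow_mem (mem_stabilizer_iff.2 hx : k ∈ stabilizer G x) _)
  have hmov : Mov G Ω k' := ⟨fun e => hl.one_lt.ne' (by rw [← ho, e, orderOf_one]),
    ho ▸ hko.of_dvd_nat hdvd, t, x₀, ht, Invol.conj_pow htk _, hfix hx₀, htx₀⟩
  have hz : ∀ x : Ω, k' • x = x → ∀ y ∈ Subgroup.zpowers k', y • x = x := fun x hx y hy =>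
    mem_stabilizer_iff.1 (Subgroup.zpowers_le.2 (mem_stabilizer_iff.2 hx) hy)
  exact h.no_three (Subgroup.zpowers k') (IsPGroup.of_card (n := 1) (by rw [Nat.card_zpowers, ho, pow_one]))
    ⟨k', Subgroup.mem_zpowers k', hmov⟩ p q r (hz p (hfix hp)) (hz q (hfix hq)) (hz r (hfix hr))
    hpq hc.2.symm hc.1.symm

/-- A Sylow `l`-subgroup `P` of a two-point stabiliser, `l` dividing the number of involutions at a point, is a
Sylow subgroup of the point stabiliser and fixes exactly these two points. -/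
theorem sylow_pair (h : Weak G Ω a) {l : ℕ} [hl : Fact l.Prime]
    (hdvd : l ∣ Nat.card {s : G // orderOf s = 2 ∧ s • a = a}) {x y : Ω} (hxy : x ≠ y) {P : Subgroup G}
    (hP : IsPGroup l P) (hPD : P ≤ stabilizer G x ⊓ stabilizer G y)
    (hmax : ∀ Q : Subgroup G, IsPGroup l Q → Q ≤ stabilizer G x ⊓ stabilizer G y → P ≤ Q → Q = P) :
    (∀ z : Ω, (∀ g ∈ P, g • z = z) → z = x ∨ z = y) ∧
      ∀ Q : Subgroup G, IsPGroup l Q → Q ≤ stabilizer G x → P ≤ Q → Q = P := by
  classical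
  obtain ⟨k, hk, hmov, hkp⟩ := h.exists_mov hdvd hxy
  set D := stabilizer G x ⊓ stabilizer G y with hD
  let PD : Sylow l D :=
    { toSubgroup := P.subgroupOf D
      isPGroup' := hP.comap_subtype
      is_maximal' := fun {Q} hQ hle => by
        have h1 := hmax _ (hQ.map D.subtype) (Subgroup.map_subtype_le _) (by
          intro z hz; exact ⟨⟨z, hPD hz⟩, hle hz, rfl⟩)
        ext z
        rw [Subgroup.mem_subgroupOf, ← h1]
        exact ⟨fun hz => ⟨z, hz, rfl⟩, fun ⟨z', hz', e'⟩ => Subtype.ext e' ▸ hz'⟩ }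
  obtain ⟨R, hR⟩ := (hkp.comap_subtype (K := D)).exists_le_sylow
  obtain ⟨d, hd⟩ := exists_smul_eq D R PD
  have hkP : (d : G) * k * (d : G)⁻¹ ∈ P := by
    have h1 : d * ⟨k, hk⟩ * d⁻¹ ∈ (PD : Subgroup D) := by
      rw [← hd, Sylow.coe_subgroup_smul, Subgroup.mem_pointwise_smul_iff_inv_smul_mem]
      simpa [mul_assoc] using hR (show (⟨k, hk⟩ : D) ∈ _ from Subgroup.mem_zpowers k)
    exact h1
  have hfix : ∀ z : Ω, (∀ g ∈ P, g • z = z) → z = x ∨ z = y := fun z hz =>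
    h.fix_pair (hmov.conj d) (mem_stabilizer_iff.1 (Subgroup.mem_inf.1 (hPD hkP)).1)
      (mem_stabilizer_iff.1 (Subgroup.mem_inf.1 (hPD hkP)).2) (hz _ hkP) hxy
  refine ⟨hfix, fun Q hQ hQx hPQ => ?_⟩
  by_contra hne
  haveI := hQ.isNilpotent
  have h1 := Group.normalizerCondition_of_isNilpotent (P.subgroupOf Q) (lt_top_iff_ne_top.2 fun e =>
    hne (le_antisymm (Subgroup.subgroupOf_eq_top.1 e) hPQ))
  refine not_le_of_gt h1 fun g hg => ?_
  have hgN : (g : G) ∈ Subgroup.normalizer (P : Set G) := by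
    rw [Subgroup.mem_normalizer_iff]
    intro z
    refine ⟨fun hz => (Subgroup.mem_normalizer_iff.1 hg ⟨z, hPQ hz⟩).1 hz, fun hz => ?_⟩
    have hzQ : z ∈ Q := by
      have h2 := mul_mem (mul_mem (inv_mem g.2) (hPQ hz)) g.2
      simpa [mul_assoc] using h2
    exact (Subgroup.mem_normalizer_iff.1 hg ⟨z, hzQ⟩).2 hz
  have hgx : (g : G) • x = x := hQx g.2
  have hgy : (g : G) • y = y := (hfix _ (fix_of_mem_normalizer hgN fun z hz =>
    (Subgroup.mem_inf.1 (hPD hz)).2)).elim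
      (fun e => absurd (MulAction.injective (g : G) (hgx.trans e.symm)) hxy) id
  show (g : G) ∈ P
  rw [← hmax (Q ⊓ D) (hQ.to_le inf_le_left) inf_le_right (le_inf hPQ hPD)]
  exact Subgroup.mem_inf.2 ⟨g.2, Subgroup.mem_inf.2 ⟨hgx, hgy⟩⟩

/-- The stabiliser of `a` is transitive on the other points. -/
theorem exists_move (h : Weak G Ω a) {x y : Ω} (hx : x ≠ a) (hy : y ≠ a) :
    ∃ g : G, g • a = a ∧ g • x = y := by
  classical
  obtain ⟨l, hl, hdvd⟩ := Nat.exists_prime_and_dvd h.one_lt_card.ne'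
  haveI := Fact.mk hl
  obtain ⟨P, -, ⟨hP, hPD⟩, hPmax⟩ := Finite.exists_le_maximal
    (p := fun S : Subgroup G => IsPGroup l S ∧ S ≤ stabilizer G a ⊓ stabilizer G x)
    (a := ⊥) ⟨IsPGroup.of_bot, bot_le⟩
  obtain ⟨-, hPH⟩ := h.sylow_pair hdvd hx.symm hP hPD
    fun Q hQ hQD hPQ => le_antisymm (hPmax ⟨hQ, hQD⟩ hPQ) hPQ
  set H := stabilizer G a with hH
  have hPH' : P ≤ H := hPD.trans inf_le_left
  let PH : Sylow l H :=
    { toSubgroup := P.subgroupOf H
      isPGroup' := hP.comap_subtype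
      is_maximal' := fun {Q} hQ hle => by
        have h1 := hPH _ (hQ.map H.subtype) (Subgroup.map_subtype_le _) (by
          intro z hz; exact ⟨⟨z, hPH' hz⟩, hle hz, rfl⟩)
        ext z
        rw [Subgroup.mem_subgroupOf, ← h1]
        exact ⟨fun hz => ⟨z, hz, rfl⟩, fun ⟨z', hz', e'⟩ => Subtype.ext e' ▸ hz'⟩ }
  obtain ⟨k, hk, hmov, hkp⟩ := h.exists_mov hdvd hy.symm
  obtain ⟨hka, hky⟩ := Subgroup.mem_inf.1 hk
  obtain ⟨R, hR⟩ := (hkp.comap_subtype (K := H)).exists_le_sylow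
  obtain ⟨d, hd⟩ := exists_smul_eq H R PH
  have hkP : (d : G) * k * (d : G)⁻¹ ∈ P := by
    have h1 : d * ⟨k, hka⟩ * d⁻¹ ∈ (PH : Subgroup H) := by
      rw [← hd, Sylow.coe_subgroup_smul, Subgroup.mem_pointwise_smul_iff_inv_smul_mem]
      simpa [mul_assoc] using hR (show (⟨k, hka⟩ : H) ∈ _ from Subgroup.mem_zpowers k)
    exact h1
  have hda : (d : G) • a = a := d.2
  have hfy : k • ((d : G)⁻¹ • x) = (d : G)⁻¹ • x := by
    have h1 : ((d : G) * k * (d : G)⁻¹) • x = x := (Subgroup.mem_inf.1 (hPD hkP)).2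
    rw [mul_smul, mul_smul, ← eq_inv_smul_iff] at h1
    exact h1
  refine ⟨(d : G)⁻¹, inv_smul_eq_iff.2 hda.symm, ?_⟩
  refine (h.fix_pair hmov hka hky hfy hy.symm).resolve_left fun e => hx ?_
  rw [inv_smul_eq_iff, hda] at e
  exact e

/-- The group is doubly transitive. -/
theorem two_transitive (h : Weak G Ω a) : MulAction.IsMultiplyPretransitive G Ω 2 := by
  rw [MulAction.is_two_pretransitive_iff]
  have key : ∀ x y : Ω, x ≠ y → ∀ b : Ω, b ≠ a → ∃ g : G, g • a = x ∧ g • b = y := by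
    intro x y hxy b hb
    obtain ⟨g, rfl⟩ := exists_smul_eq G a x
    obtain ⟨g', h1, h2⟩ := h.exists_move hb (y := g⁻¹ • y) (fun e => hxy (by rw [← e, smul_inv_smul]))
    exact ⟨g * g', by rw [mul_smul, h1], by rw [mul_smul, h2, smul_inv_smul]⟩
  obtain ⟨b, hb⟩ := exists_ne a
  intro x y x' y' hxy hxy'
  obtain ⟨g, g1, g2⟩ := key x y hxy b hb
  obtain ⟨g', g1', g2'⟩ := key x' y' hxy' b hb
  exact ⟨g' * g⁻¹, by rw [← g1, mul_smul, inv_smul_smul, g1'],
    by rw [← g2, mul_smul, inv_smul_smul, g2']⟩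

/-- The hypotheses from: no element fixes more than two points. -/
theorem of_fixity_two (hu : ∀ t : G, orderOf t = 2 → ∀ x y : Ω, t • x = x → t • y = y → x = y)
    (h3 : ∀ g : G, ∀ x y z : Ω, g • x = x → g • y = y → g • z = z → x ≠ y → y ≠ z → x ≠ z → g = 1)
    (two : ∃ s t : G, orderOf s = 2 ∧ orderOf t = 2 ∧ s ≠ t ∧ s • a = a ∧ t • a = a) : Weak G Ω a := by
  refine ⟨hu, fun t k c x ht hinv _ hk1 hc hkc hx => ?_, two⟩
  by_contra hxc
  have hktx : k • t • x = t • x := by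
    have e : t * k⁻¹ = k * t := by
      calc t * k⁻¹ = t * (t * k * t⁻¹) := by rw [hinv]
        _ = t * t * k * t⁻¹ := by group
        _ = k * t := by rw [Invol.mul_self ht, one_mul, Invol.inv_self ht]
    rw [← mul_smul, ← e, mul_smul, inv_smul_eq_iff.2 hx.symm]
  by_cases h1 : t • x = x
  · exact hxc (hu t ht x c h1 hc)
  by_cases h2 : t • x = c
  · exact hxc (MulAction.injective t (h2.trans hc.symm))
  exact hk1 (h3 k c x (t • x) hkc hx hktx (Ne.symm hxc) (Ne.symm h1) (Ne.symm h2))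

end Weak

namespace Hyp

/-- An element `Mov` fixes at most two points. -/
theorem fix_pair (h : Hyp G Ω a) {k : G} (hk : Mov G Ω k) {p q r : Ω} (hp : k • p = p) (hq : k • q = q)
    (hr : k • r = r) (hpq : p ≠ q) : r = p ∨ r = q := h.weak.fix_pair hk hp hq hr hpq

/-- The stabiliser of `a` is transitive on the other points. -/
theorem exists_move (h : Hyp G Ω a) {x y : Ω} (hx : x ≠ a) (hy : y ≠ a) :
    ∃ g : G, g • a = a ∧ g • x = y := h.weak.exists_move hx hy

/-- The group is doubly transitive. -/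
theorem two_transitive (h : Hyp G Ω a) : MulAction.IsMultiplyPretransitive G Ω 2 := h.weak.two_transitive

omit [IsPretransitive G Ω] [Nontrivial Ω] in
/-- A subgroup inherits the hypotheses on the orbit of `a`. -/
theorem of_subgroup (h : Hyp G Ω a) (E : Subgroup G)
    (h2 : ∃ s t : G, s ∈ E ∧ t ∈ E ∧ orderOf s = 2 ∧ orderOf t = 2 ∧ s ≠ t ∧ s • a = a ∧ t • a = a) :
    Hyp E (orbit E a) ⟨a, mem_orbit_self a⟩ := by
  refine ⟨fun t ht x y hx hy => Subtype.ext ?_, fun s t hs ht hsa hta => Subtype.ext ?_, ?_⟩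
  · refine h.fix_unique t ?_ x y (congrArg Subtype.val hx) (congrArg Subtype.val hy)
    rwa [Subgroup.orderOf_coe]
  · exact h.comm s t (by rwa [Subgroup.orderOf_coe]) (by rwa [Subgroup.orderOf_coe])
      (congrArg Subtype.val hsa) (congrArg Subtype.val hta)
  · obtain ⟨s, t, hsE, htE, hs, ht, hne, hsa, hta⟩ := h2
    exact ⟨⟨s, hsE⟩, ⟨t, htE⟩, by rwa [Subgroup.orderOf_mk], by rwa [Subgroup.orderOf_mk],
      fun e => hne (congrArg Subtype.val e), Subtype.ext hsa, Subtype.ext hta⟩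

omit [IsPretransitive G Ω] [Nontrivial Ω] in
/-- A subgroup containing two involutions at `a` is transitive, with `a` fixed, on the rest of the orbit of `a`. -/
theorem exists_move_subgroup (h : Hyp G Ω a) (E : Subgroup G)
    (h2 : ∃ s t : G, s ∈ E ∧ t ∈ E ∧ orderOf s = 2 ∧ orderOf t = 2 ∧ s ≠ t ∧ s • a = a ∧ t • a = a)
    {x y : Ω} (hx : x ∈ orbit E a) (hy : y ∈ orbit E a) (hxa : x ≠ a) (hya : y ≠ a) :
    ∃ g ∈ E, g • a = a ∧ g • x = y := by
  have hx' : (⟨x, hx⟩ : orbit E a) ≠ ⟨a, mem_orbit_self a⟩ := fun e => hxa (congrArg Subtype.val e)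
  haveI : Nontrivial (orbit E a) := ⟨⟨_, _, hx'⟩⟩
  obtain ⟨g, g1, g2⟩ := (h.of_subgroup E h2).exists_move (x := ⟨x, hx⟩) (y := ⟨y, hy⟩) hx'
    (fun e => hya (congrArg Subtype.val e))
  exact ⟨g, g.2, congrArg Subtype.val g1, congrArg Subtype.val g2⟩

end Hyp

/-- The hypotheses from a strongly embedded subgroup whose involutions commute. -/
theorem hyp_of_se {G : Type u} [Group G] [Finite G] {H : Subgroup G} (hH : Cfsg.IsStronglyEmbedded H)
    (hcomm : ∀ s t : G, s ∈ H → t ∈ H → orderOf s = 2 → orderOf t = 2 → s * t = t * s)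
    (h2 : ∃ s t : G, s ∈ H ∧ t ∈ H ∧ orderOf s = 2 ∧ orderOf t = 2 ∧ s ≠ t) :
    Hyp G (G ⧸ H) ((1 : G) : G ⧸ H) := by
  have hst : stabilizer G ((1 : G) : G ⧸ H) = H := MulAction.stabilizer_quotient H
  refine ⟨fun t ht x y hx hy => Invol.se_fix_unique hH ht hx hy, fun s t hs ht hsa hta => ?_, ?_⟩
  · exact hcomm s t (hst.le hsa) (hst.le hta) hs ht
  · obtain ⟨s, t, hsH, htH, hs, ht, hne⟩ := h2
    exact ⟨s, t, hs, ht, hne, hst.ge hsH, hst.ge htH⟩

/-- `G` is doubly transitive on the cosets of a strongly embedded subgroup whose involutions commute. -/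
theorem transitive_of_se {G : Type u} [Group G] [Finite G] {H : Subgroup G} (hH : Cfsg.IsStronglyEmbedded H)
    (hcomm : ∀ s t : G, s ∈ H → t ∈ H → orderOf s = 2 → orderOf t = 2 → s * t = t * s)
    (h2 : ∃ s t : G, s ∈ H ∧ t ∈ H ∧ orderOf s = 2 ∧ orderOf t = 2 ∧ s ≠ t) :
    ∀ g₁ g₂ : G, g₁ ∉ H → g₂ ∉ H → ∃ h ∈ H, g₂⁻¹ * (h * g₁) ∈ H := by
  intro g₁ g₂ hg₁ hg₂
  have hne : ∀ {g : G}, g ∉ H → (g : G ⧸ H) ≠ ((1 : G) : G ⧸ H) := fun hg e => hg (by
    rw [QuotientGroup.eq, mul_one, inv_mem_iff] at e; exact e)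
  haveI : Nontrivial (G ⧸ H) := ⟨⟨_, _, hne hg₁⟩⟩
  obtain ⟨g, hga, hg⟩ := (hyp_of_se hH hcomm h2).exists_move (hne hg₁) (hne hg₂)
  refine ⟨g, (MulAction.stabilizer_quotient H).le hga, ?_⟩
  rw [MulAction.Quotient.smul_mk, smul_eq_mul, eq_comm, QuotientGroup.eq] at hg
  exact hg

end Cfsg.Agent.SETrans
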