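import Cfsg.Agent.Lib.SETrans.Main

/-!
# A nontrivial normal 2-subgroup of a strongly embedded subgroup contains all its involutions
-/

set_option autoImplicit false
set_option linter.style.haveILetI false

namespace Cfsg.Agent.SETrans

variable {G : Type*} [Group G] [Finite G] {H N : Subgroup G}

/-- If a strongly embedded subgroup `H` has a nontrivial normal 2-subgroup `N`, then the involutions of `H` lie in the
centre of `N`; in particular they commute with each other. -/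
theorem invol_mem_centre (hH : Cfsg.IsStronglyEmbedded H) (hNH : N ≤ H) (hN : IsPGroup 2 N) (hN1 : N ≠ ⊥)
    (hn : ∀ g ∈ H, ∀ x ∈ N, g * x * g⁻¹ ∈ N) {s : G} (hs : orderOf s = 2) (hsH : s ∈ H) :
    s ∈ N ∧ ∀ x ∈ N, s * x = x * s := by
  classical
  haveI : Fact (Nat.Prime 2) := ⟨Nat.prime_two⟩
  haveI : Nontrivial N := (Subgroup.nontrivial_iff_ne_bot N).2 hN1
  haveI := hN.center_nontrivial
  have heven : Even (Nat.card (Subgroup.center N)) := by
    rcases (hN.to_subgroup (Subgroup.center N)).card_eq_or_dvd with h | h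
    · exact absurd h Finite.one_lt_card.ne'
    · exact even_iff_two_dvd.2 h
  obtain ⟨⟨z, hzN⟩, hzc, hz⟩ := Invol.exists_invol heven
  rw [Subgroup.orderOf_mk] at hz
  obtain ⟨g, hg⟩ := isConj_iff.1 (Invol.se_isConj hH hz hs)
  have hgH : g ∈ H := Invol.se_mem_of_conj hH hz (hNH hzN) (hg ▸ hsH)
  refine ⟨hg ▸ hn g hgH z hzN, fun x hx => ?_⟩
  have hx' : g⁻¹ * x * g ∈ N := by simpa using hn g⁻¹ (inv_mem hgH) x hx
  have key : z * (g⁻¹ * x * g) = g⁻¹ * x * g * z :=
    (congrArg Subtype.val (Subgroup.mem_center_iff.1 hzc ⟨_, hx'⟩)).symm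
  rw [← hg]
  calc g * z * g⁻¹ * x = g * (z * (g⁻¹ * x * g)) * g⁻¹ := by group
    _ = g * (g⁻¹ * x * g * z) * g⁻¹ := by rw [key]
    _ = x * (g * z * g⁻¹) := by group

theorem invol_comm_of_normal_two (hH : Cfsg.IsStronglyEmbedded H) (hNH : N ≤ H) (hN : IsPGroup 2 N)
    (hN1 : N ≠ ⊥) (hn : ∀ g ∈ H, ∀ x ∈ N, g * x * g⁻¹ ∈ N) :
    ∀ s t : G, s ∈ H → t ∈ H → orderOf s = 2 → orderOf t = 2 → s * t = t * s :=
  fun _ _ hsH htH hs ht => (invol_mem_centre hH hNH hN hN1 hn hs hsH).2 _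
    (invol_mem_centre hH hNH hN hN1 hn ht htH).1

end Cfsg.Agent.SETrans
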