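import Cfsg.Agent.Lib.SETrans.Main
import Cfsg.Agent.Lib.SERegular.Defs

/-!
# Double transitivity in the setting of the regular normal subgroup step
-/

set_option autoImplicit false

namespace Cfsg.Agent.SETrans

open MulAction

universe u v

/-- `SERegular.TwoTransStmt` holds. -/
theorem twoTransStmt : SERegular.TwoTransStmt.{u, v} := by
  intro G Ω _ _ _ _ a hc b c hb hc'
  haveI := hc.pretrans
  haveI : Nontrivial Ω := ⟨⟨b, a, hb⟩⟩
  obtain ⟨s, t, hs, ht, hsa, hta, hne⟩ := hc.four
  exact Hyp.exists_move ⟨fun _ ht' _ _ => hc.fix_eq ht', hc.comm, s, t, hs, ht, hne, hsa, hta⟩ hb hc'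

end Cfsg.Agent.SETrans
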