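import Cfsg.Agent.Lib.SERegular.Factor
import Cfsg.Agent.Lib.Involutions.SwapCount

/-!
# The centraliser of commuting conjugate involutions has odd index in a soluble group

This supplies the hypothesis of the regular normal subgroup step.
-/

set_option autoImplicit false
set_option linter.style.haveILetI false

namespace Cfsg.Agent.SETrans

open Subgroup

universe u

variable {K : Type u} [Group K] [Finite K] {C A : Subgroup K}

omit [Finite K] in
/-- The image of a subgroup modulo `C` is an `r`-group. -/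
theorem isPGroup_map_mk' [C.Normal] {r : ℕ} {T : Subgroup K} (hT : ∀ x ∈ T, ∃ n, x ^ r ^ n ∈ C) :
    IsPGroup r (T.map (QuotientGroup.mk' C)) := by
  rintro ⟨_, x, hx, rfl⟩
  obtain ⟨n, hn⟩ := hT x hx
  refine ⟨n, Subtype.ext ?_⟩
  rw [Subgroup.coe_pow, ← map_pow, Subgroup.coe_one]
  exact (QuotientGroup.eq_one_iff _).2 hn

/-- A Sylow subgroup covers a section of prime power order. -/
theorem le_sup_sylow [C.Normal] {r : ℕ} [Fact r.Prime] {T : Subgroup K}
    (hT : ∀ x ∈ T, ∃ n, x ^ r ^ n ∈ C) (S : Sylow r T) : T ≤ C ⊔ (S : Subgroup T).map T.subtype := by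
  set π := QuotientGroup.mk' C
  let φ : T →* T.map π := (π.subgroupMap T)
  have hφ : Function.Surjective φ := π.subgroupMap_surjective T
  obtain ⟨k, hk⟩ := IsPGroup.iff_card.1 (isPGroup_map_mk' hT)
  have h1 : ((S : Subgroup T).map φ).index ∣ r ^ k := hk ▸ Subgroup.index_dvd_card _
  have h2 : ((S : Subgroup T).map φ).index ∣ (S : Subgroup T).index := Subgroup.index_map_dvd _ hφ
  have htop : (S : Subgroup T).map φ = ⊤ := by
    rw [← Subgroup.index_eq_one]
    exact Nat.eq_one_of_dvd_coprimes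
      ((Fact.out : r.Prime).coprime_iff_not_dvd.2 S.not_dvd_index |>.pow_left k).symm h2 h1
  intro x hx
  obtain ⟨y, hy, hyx⟩ : φ ⟨x, hx⟩ ∈ (S : Subgroup T).map φ := htop ▸ mem_top _
  have h3 : x * (y : K)⁻¹ ∈ C := by
    rw [← QuotientGroup.eq_one_iff]
    have : π (y : K) = π x := congrArg Subtype.val hyx
    show π (x * (y : K)⁻¹) = 1
    rw [map_mul, map_inv, this, mul_inv_cancel]
  have := mul_mem (mem_sup_left h3 : x * (y : K)⁻¹ ∈ C ⊔ (S : Subgroup T).map T.subtype)
    (mem_sup_right ⟨y, hy, rfl⟩ : (y : K) ∈ C ⊔ (S : Subgroup T).map T.subtype)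
  rwa [inv_mul_cancel_right] at this

omit [Finite K] in
theorem commute_of_le_sup {t : K} {U V : Subgroup K} (hU : ∀ x ∈ U, x * t = t * x) (hV : ∀ x ∈ V, x * t = t * x)
    {x : K} (hx : x ∈ U ⊔ V) : x * t = t * x := by
  have hle : U ⊔ V ≤ centralizer {t} :=
    sup_le (fun z hz => mem_centralizer_singleton_iff.2 (hU z hz))
      (fun z hz => mem_centralizer_singleton_iff.2 (hV z hz))
  exact mem_centralizer_singleton_iff.1 (hle hx)

/-- If the normal subgroup `C` contains and centralises all involutions, and `A / C` is a normal section of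
odd prime power order centralising none of them, then `C` has odd index. -/
theorem odd_index_of_section [C.Normal] [A.Normal] (hCA : C ≤ A) {r : ℕ} [Fact r.Prime] (hr2 : r ≠ 2)
    (hAr : ∀ x ∈ A, ∃ n, x ^ r ^ n ∈ C) (hin : ∀ t : K, orderOf t = 2 → t ∈ C)
    (hCc : ∀ c ∈ C, ∀ t : K, orderOf t = 2 → c * t = t * c)
    (hA : ∀ t : K, orderOf t = 2 → ∃ x ∈ A, x * t ≠ t * x) : Odd C.index := by
  classical
  haveI : Fact (Nat.Prime 2) := ⟨Nat.prime_two⟩
  rw [← Nat.not_even_iff_odd]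
  intro hev
  have hodd_pow : ∀ n, Odd (r ^ n) := fun n => ((Fact.out : r.Prime).odd_of_ne_two hr2).pow
  -- `A` has even index
  have hAev : 2 ∣ A.index := by
    rw [← relIndex_mul_index hCA] at hev
    refine ((Nat.Prime.dvd_mul Nat.prime_two).1 hev.two_dvd).resolve_left fun h => ?_
    obtain ⟨k, hk⟩ := IsPGroup.iff_card.1 (isPGroup_map_mk' hAr)
    have e : Nat.card (A.map (QuotientGroup.mk' C)) = C.relIndex A := by
      rw [← Subgroup.relIndex_ker, QuotientGroup.ker_mk']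
    rw [← e, hk] at h
    exact Nat.not_even_iff_odd.2 (hodd_pow k) (even_iff_two_dvd.2 h)
  obtain ⟨P⟩ : Nonempty (Sylow 2 C) := inferInstance
  set P' : Subgroup K := (P : Subgroup C).map C.subtype with hP'
  set N : Subgroup K := normalizer (P' : Set K) with hN
  have hKN : N ⊔ C = ⊤ := P.normalizer_sup_eq_top
  set T : Subgroup K := A ⊓ N with hT
  obtain ⟨Y⟩ : Nonempty (Sylow r T) := inferInstance
  set Y' : Subgroup K := (Y : Subgroup T).map T.subtype with hY'
  have hTr : ∀ x ∈ T, ∃ n, x ^ r ^ n ∈ C := fun x hx => hAr x hx.1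
  have hAY : A ≤ C ⊔ Y' := by
    intro x hx
    have hmem : x ∈ N ⊔ C := hKN ▸ mem_top x
    rw [← SetLike.mem_coe, Subgroup.mul_normal] at hmem
    obtain ⟨n, hn, c, hc, rfl⟩ := hmem
    have hnA : n ∈ A := by simpa using mul_mem hx (inv_mem (hCA hc))
    exact mul_mem (le_sup_sylow hTr Y ⟨hnA, hn⟩) (mem_sup_left hc)
  -- an element of `N` normalising `Y'` outside `A`
  haveI : (T.subgroupOf N).Normal := by
    rw [hT, inf_subgroupOf_right]; infer_instance
  have hcover : (⊤ : Subgroup K) = A ⊔ (N ⊓ normalizer (Y' : Set K)) := by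
    refine le_antisymm ?_ le_top
    rw [← hKN]
    refine sup_le (fun n hn => ?_) (hCA.trans le_sup_left)
    let e : T ≃* T.subgroupOf N := (subgroupOfEquivOfLe inf_le_right).symm
    let Y₀ : Sylow r (T.subgroupOf N) := Y.mapSurjective (f := e.toMonoidHom) e.surjective
    have h1 : (⟨n, hn⟩ : N) ∈ normalizer (((Y₀ : Subgroup (T.subgroupOf N)).map (T.subgroupOf N).subtype : Subgroup N) : Set N)
        ⊔ T.subgroupOf N := Y₀.normalizer_sup_eq_top ▸ mem_top _
    rw [← SetLike.mem_coe, Subgroup.mul_normal] at h1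
    obtain ⟨m, hm, x, hx, hmx⟩ := h1
    have hxA : (x : K) ∈ A := (show (x : K) ∈ T from hx).1
    have hY0 : ((Y₀ : Subgroup (T.subgroupOf N)).map (T.subgroupOf N).subtype).map N.subtype = Y' := by
      show (((Y : Subgroup T).map e.toMonoidHom).map (T.subgroupOf N).subtype).map N.subtype = Y'
      rw [map_map, map_map]
      rfl
    have hmY : (m : K) ∈ normalizer (Y' : Set K) := by
      rw [← hY0]
      exact (le_normalizer_map N.subtype) ⟨m, hm, rfl⟩
    have hmul : n = (m : K) * (x : K) := (congrArg Subtype.val hmx).symm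
    rw [hmul]
    exact mul_mem (mem_sup_right ⟨m.2, hmY⟩) (mem_sup_left hxA)
  obtain ⟨q, hq⟩ := exists_prime_orderOf_dvd_card' (G := K ⧸ A) (p := 2) hAev
  obtain ⟨g, rfl⟩ := QuotientGroup.mk_surjective q
  have hg : g ∈ (N ⊓ normalizer (Y' : Set K)) ⊔ A := by rw [sup_comm, ← hcover]; exact mem_top g
  rw [← SetLike.mem_coe, Subgroup.mul_normal] at hg
  obtain ⟨n, hn, x, hx, rfl⟩ := hg
  have hxn : ((n * x : K) : K ⧸ A) = (n : K ⧸ A) := by
    rw [QuotientGroup.mk_mul, (QuotientGroup.eq_one_iff x).2 hx, mul_one]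
  rw [hxn] at hq
  obtain ⟨k, m, hm, hnk⟩ := Nat.exists_eq_two_pow_mul_odd (orderOf_pos n).ne'
  set s := n ^ m with hs
  have hs2k : s ^ 2 ^ k = 1 := by rw [hs, ← pow_mul, mul_comm, ← hnk, pow_orderOf_eq_one]
  have hsn : (s : K ⧸ A) = (n : K ⧸ A) := by
    rw [hs, QuotientGroup.mk_pow, ← pow_mod_orderOf, hq, Nat.odd_iff.1 hm, pow_one]
  have hsA : s ∉ A := fun h => by
    rw [← hsn, (QuotientGroup.eq_one_iff s).2 h, orderOf_one] at hq
    omega
  have hsqA : s * s ∈ A := by
    rw [← QuotientGroup.eq_one_iff, QuotientGroup.mk_mul, hsn, ← pow_two, ← hq, pow_orderOf_eq_one]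
  have hsN : s ∈ N ∧ s ∈ normalizer (Y' : Set K) := ⟨pow_mem hn.1 m, pow_mem hn.2 m⟩
  have hsq2 : (s * s) ^ 2 ^ k = 1 := by
    rw [(Commute.refl s).mul_pow, hs2k, one_mul]
  have hsqC : s * s ∈ C := by
    obtain ⟨j, hj⟩ := hAr _ hsqA
    have hco : (orderOf (s * s)).Coprime (r ^ j) := by
      refine Nat.Coprime.coprime_dvd_left (orderOf_dvd_of_pow_eq_one hsq2) (Nat.Coprime.pow_left _ ?_)
      exact Nat.coprime_two_left.2 (hodd_pow j)
    obtain ⟨z, hz⟩ := exists_pow_eq_self_of_coprime hco.symm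
    exact hz ▸ pow_mem hj z
  have hsqP : s * s ∈ P' := by
    have hsub : P'.subgroupOf C = (P : Subgroup C) := by
      rw [hP', subgroupOf, comap_map_eq_self_of_injective (subtype_injective C)]
    have hsqN : (⟨s * s, hsqC⟩ : C) ∈ normalizer ((P : Subgroup C) : Set C) := by
      rw [← hsub]
      refine mem_normalizer_iff.2 fun y => ?_
      simp only [mem_subgroupOf, Subgroup.coe_mul, Subgroup.coe_inv]
      exact mem_normalizer_iff.1 (mul_mem hsN.1 hsN.1) y
    have hpg : IsPGroup 2 (zpowers (⟨s * s, hsqC⟩ : C)) := by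
      rintro ⟨_, i, rfl⟩
      refine ⟨k, Subtype.ext ?_⟩
      rw [Subgroup.coe_pow, Subgroup.coe_one, ← zpow_natCast, ← zpow_mul, mul_comm, zpow_mul, zpow_natCast]
      rw [show (⟨s * s, hsqC⟩ : C) ^ 2 ^ k = 1 from Subtype.ext (by simpa using hsq2), one_zpow]
    have hle : zpowers (⟨s * s, hsqC⟩ : C) ≤ normalizer ((P : Subgroup C) : Set C) :=
      zpowers_le.2 hsqN
    have := P.3 (hpg.to_sup_of_normal_right' P.isPGroup' hle) le_sup_right
    exact ⟨_, this ▸ mem_sup_left (mem_zpowers _), rfl⟩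
  have hYp : IsPGroup r Y' := Y.isPGroup'.map _
  have hYN : ∀ y ∈ Y', y ∈ N := by
    rintro _ ⟨y, -, rfl⟩; exact y.2.2
  have hP2 : IsPGroup 2 P' := P.isPGroup'.map _
  have hcomm : ∀ y ∈ Y', (s * s) * y = y * (s * s) := by
    intro y hy
    have h1 : s * s * y * (s * s)⁻¹ * y⁻¹ ∈ Y' :=
      mul_mem ((mem_normalizer_iff.1 (mul_mem hsN.2 hsN.2) y).1 hy) (inv_mem hy)
    have h2 : s * s * y * (s * s)⁻¹ * y⁻¹ ∈ P' := by
      rw [mul_assoc (s * s) y, mul_assoc (s * s)]
      exact mul_mem hsqP ((mem_normalizer_iff.1 (hYN y hy) _).1 (inv_mem hsqP))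
    have h3 : Disjoint Y' P' := IsPGroup.disjoint_of_ne r 2 hr2 Y' P' hYp hP2
    exact mul_inv_eq_iff_eq_mul.1 (mul_inv_eq_one.1 (Subgroup.disjoint_def.1 h3 h1 h2))
  rcases eq_or_ne (s * s) 1 with h | h
  · exact hsA (hCA (hin s (Invol.order_two_of_sq h fun e => hsA (e ▸ one_mem A))))
  obtain ⟨i, -, hi⟩ := (Nat.dvd_prime_pow Nat.prime_two).1 (orderOf_dvd_of_pow_eq_one hsq2)
  have hi0 : i ≠ 0 := fun e => h (orderOf_eq_one_iff.1 (by rw [hi, e, pow_zero]))
  set t := (s * s) ^ 2 ^ (i - 1)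
  have ht : orderOf t = 2 := by
    rw [orderOf_pow' _ (by positivity), hi, Nat.gcd_eq_right (pow_dvd_pow 2 (by omega)),
      Nat.pow_div (by omega) (by norm_num), show i - (i - 1) = 1 by omega, pow_one]
  obtain ⟨x, hx, hxt⟩ := hA t ht
  refine hxt (commute_of_le_sup (fun c hc => hCc c hc t ht) (fun y hy => ?_) (hAY hx))
  exact ((show Commute y (s * s) from (hcomm y hy).symm).pow_right _).eq

/-- In a soluble group with commuting conjugate involutions their centraliser has odd index. -/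
theorem odd_index_of_solvable [Group.IsSolvable K]
    (hcomm : ∀ s t : K, orderOf s = 2 → orderOf t = 2 → s * t = t * s)
    (hconj : ∀ s t : K, orderOf s = 2 → orderOf t = 2 → IsConj s t) :
    Odd (centralizer {t : K | orderOf t = 2}).index := by
  classical
  set C := centralizer {t : K | orderOf t = 2} with hC
  have hCc : ∀ c ∈ C, ∀ t : K, orderOf t = 2 → c * t = t * c :=
    fun c hc t ht => (mem_centralizer_iff.1 hc t ht).symm
  have hin : ∀ t : K, orderOf t = 2 → t ∈ C :=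
    fun t ht => mem_centralizer_iff.2 fun s hs => hcomm s t hs ht
  haveI hCn : C.Normal := ⟨fun c hc g => mem_centralizer_iff.2 fun t ht => by
    have h' : orderOf (g⁻¹ * t * g⁻¹⁻¹) = 2 := (Invol.order_conj _ _).trans ht
    have := hCc c hc _ h'
    rw [inv_inv] at this
    calc t * (g * c * g⁻¹) = g * (g⁻¹ * t * g * c) * g⁻¹ := by group
      _ = g * (c * (g⁻¹ * t * g)) * g⁻¹ := by rw [this]
      _ = g * c * g⁻¹ * t := by group⟩
  rcases eq_or_ne C ⊤ with e | e
  · rw [e, index_top]; exact odd_one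
  haveI : Nontrivial (K ⧸ C) := QuotientGroup.nontrivial_iff.2 e
  obtain ⟨r, B, hr, hBn, hB1, hBp, -⟩ := SERegular.exists_normal_elem (K := K ⧸ C)
  haveI := Fact.mk hr
  haveI := hBn
  set A := B.comap (QuotientGroup.mk' C)
  have hCA : C ≤ A := fun x hx => by
    show (x : K ⧸ C) ∈ B
    rw [(QuotientGroup.eq_one_iff x).2 hx]; exact one_mem B
  have hAr : ∀ x ∈ A, ∃ n, x ^ r ^ n ∈ C := fun x hx => by
    obtain ⟨n, hn⟩ := hBp ⟨_, hx⟩
    exact ⟨n, (QuotientGroup.eq_one_iff _).1 (by simpa using congrArg Subtype.val hn)⟩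
  have hA : ∀ t : K, orderOf t = 2 → ∃ x ∈ A, x * t ≠ t * x := by
    intro t ht
    by_contra hcon
    push Not at hcon
    refine hB1 ((Subgroup.eq_bot_iff_forall B).2 fun b hb => ?_)
    obtain ⟨x, rfl⟩ := QuotientGroup.mk_surjective b
    refine (QuotientGroup.eq_one_iff x).2 (mem_centralizer_iff.2 fun u hu => ?_)
    obtain ⟨g, rfl⟩ := isConj_iff.1 (hconj t u ht hu)
    have := hcon (g⁻¹ * x * g) (by simpa using (inferInstance : A.Normal).conj_mem x (show x ∈ A from hb) g⁻¹)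
    calc g * t * g⁻¹ * x = g * (t * (g⁻¹ * x * g)) * g⁻¹ := by group
      _ = g * (g⁻¹ * x * g * t) * g⁻¹ := by rw [this]
      _ = x * (g * t * g⁻¹) := by group
  refine odd_index_of_section hCA ?_ hAr hin hCc hA
  rintro rfl
  obtain ⟨t₀, ht₀⟩ : ∃ t : K, orderOf t = 2 := by
    by_contra hcon
    exact e (eq_top_iff.2 fun x _ => mem_centralizer_iff.2 fun t ht => absurd ⟨t, ht⟩ hcon)
  let U : Subgroup K :=
    { carrier := {x | x * x = 1}
      one_mem' := one_mul 1
      mul_mem' := fun {x y} hx hy => by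
        show x * y * (x * y) = 1
        have hxy : x * y = y * x := by
          rcases eq_or_ne x 1 with rfl | h1
          · rw [one_mul, mul_one]
          rcases eq_or_ne y 1 with rfl | h2
          · rw [one_mul, mul_one]
          exact hcomm x y (Invol.order_two_of_sq hx h1) (Invol.order_two_of_sq hy h2)
        calc x * y * (x * y) = x * y * (y * x) := by rw [← hxy]
          _ = x * (y * y) * x := by group
          _ = 1 := by rw [hy, mul_one, hx]
      inv_mem' := fun {x} hx => by show x⁻¹ * x⁻¹ = 1; rw [← mul_inv_rev, hx, inv_one] }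
  obtain ⟨S⟩ : Nonempty (Sylow 2 A) := inferInstance
  letI : MulAction S U :=
    { smul := fun g x => ⟨((g : A) : K) * x * ((g : A) : K)⁻¹, show _ = _ by
        calc ((g : A) : K) * x * ((g : A) : K)⁻¹ * (((g : A) : K) * x * ((g : A) : K)⁻¹)
            = ((g : A) : K) * ((x : K) * x) * ((g : A) : K)⁻¹ := by group
          _ = 1 := by rw [x.2, mul_one, mul_inv_cancel]⟩
      one_smul := fun x => Subtype.ext (show ((1 : A) : K) * x * ((1 : A) : K)⁻¹ = x by simp)
      mul_smul := fun g h x => Subtype.ext (show ((g * h : A) : K) * x * ((g * h : A) : K)⁻¹ =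
        ((g : A) : K) * (((h : A) : K) * x * ((h : A) : K)⁻¹) * ((g : A) : K)⁻¹ by
          rw [Subgroup.coe_mul]; group) }
  have hU2 : 2 ∣ Nat.card U := by
    have h : orderOf (⟨t₀, Invol.mul_self ht₀⟩ : U) ∣ Nat.card U := orderOf_dvd_natCard _
    rw [← Subgroup.orderOf_coe] at h
    exact ht₀ ▸ h
  obtain ⟨z, hz, hz1⟩ := S.isPGroup'.exists_fixed_point_of_prime_dvd_card_of_fixed_point U hU2
    (a := (1 : U)) (fun g => Subtype.ext (show ((g : A) : K) * 1 * ((g : A) : K)⁻¹ = 1 by group))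
  have hzo : orderOf (z : K) = 2 :=
    Invol.order_two_of_sq z.2 fun h => hz1 (Subtype.ext h).symm
  obtain ⟨x, hx, hxz⟩ := hA z hzo
  refine hxz (commute_of_le_sup (fun c hc => hCc c hc z hzo) ?_ (le_sup_sylow hAr S hx))
  rintro _ ⟨g, hg, rfl⟩
  exact mul_inv_eq_iff_eq_mul.1 (congrArg Subtype.val (hz ⟨g, hg⟩))

section SE

open MulAction

variable {G : Type u} [Group G] [Finite G] {H : Subgroup G}

/-- The setting of the regular normal subgroup step on the cosets of a strongly embedded subgroup. -/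
theorem cfg_of_se (hH : Cfsg.IsStronglyEmbedded H)
    (hcomm : ∀ s t : G, s ∈ H → t ∈ H → orderOf s = 2 → orderOf t = 2 → s * t = t * s)
    (htwo : ∃ s t : G, s ∈ H ∧ t ∈ H ∧ orderOf s = 2 ∧ orderOf t = 2 ∧ s ≠ t)
    (hodd : Odd (centralizer {t : H | orderOf t = 2}).index) :
    SERegular.Cfg G (G ⧸ H) ((1 : G) : G ⧸ H) := by
  have hst : stabilizer G ((1 : G) : G ⧸ H) = H := stabilizer_quotient H
  have hmem : ∀ t : G, t • ((1 : G) : G ⧸ H) = ((1 : G) : G ⧸ H) ↔ t ∈ H := fun t => by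
    rw [← mem_stabilizer_iff, hst]
  refine ⟨inferInstance, fun t ht => ?_, fun s t hs ht h1 h2 => hcomm s t ((hmem s).1 h1) ((hmem t).1 h2) hs ht,
    ?_, ?_⟩
  · obtain ⟨x, hx⟩ := Invol.se_exists_fix hH ht
    exact ⟨x, hx, fun y hy => Invol.se_fix_unique hH ht hy hx⟩
  · obtain ⟨s, t, hsH, htH, hs, ht, hne⟩ := htwo
    exact ⟨s, t, hs, ht, (hmem s).2 hsH, (hmem t).2 htH, hne⟩
  · rw [hst]
    have : (SERegular.uCent G ((1 : G) : G ⧸ H)).subgroupOf H = centralizer {t : H | orderOf t = 2} := by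
      ext g
      rw [mem_subgroupOf, SERegular.mem_uCent, mem_centralizer_iff]
      refine ⟨fun h t ht => Subtype.ext (h.2 t (by rw [Subgroup.orderOf_coe]; exact ht) ((hmem _).2 t.2)),
        fun h => ⟨(hmem _).2 g.2, fun t ht hta => ?_⟩⟩
      exact congrArg Subtype.val (h ⟨t, (hmem t).1 hta⟩ (by
        show orderOf _ = 2
        rw [← Subgroup.orderOf_coe]; exact ht))
    rwa [relIndex, this]

/-- Version for a soluble strongly embedded subgroup. -/
theorem cfg_of_se_solvable (hH : Cfsg.IsStronglyEmbedded H) [Group.IsSolvable H]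
    (hcomm : ∀ s t : G, s ∈ H → t ∈ H → orderOf s = 2 → orderOf t = 2 → s * t = t * s)
    (htwo : ∃ s t : G, s ∈ H ∧ t ∈ H ∧ orderOf s = 2 ∧ orderOf t = 2 ∧ s ≠ t) :
    SERegular.Cfg G (G ⧸ H) ((1 : G) : G ⧸ H) := by
  refine cfg_of_se hH hcomm htwo (odd_index_of_solvable
    (fun s t hs ht => Subtype.ext (hcomm s t s.2 t.2 ((Subgroup.orderOf_coe s).trans hs)
      ((Subgroup.orderOf_coe t).trans ht))) fun s t hs ht => ?_)
  rw [← Subgroup.orderOf_coe] at hs ht
  obtain ⟨g, hg⟩ := isConj_iff.1 (Invol.se_isConj hH hs ht)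
  exact isConj_iff.2 ⟨⟨g, Invol.se_mem_of_conj hH hs s.2 (hg ▸ t.2)⟩, Subtype.ext hg⟩

/-- Version in which the involutions centralise a Sylow 2-subgroup. -/
theorem cfg_of_se_sylow (hH : Cfsg.IsStronglyEmbedded H)
    (hcomm : ∀ s t : G, s ∈ H → t ∈ H → orderOf s = 2 → orderOf t = 2 → s * t = t * s)
    (htwo : ∃ s t : G, s ∈ H ∧ t ∈ H ∧ orderOf s = 2 ∧ orderOf t = 2 ∧ s ≠ t) (S : Sylow 2 H)
    (hS : ∀ x ∈ S, ∀ t : H, orderOf t = 2 → t * x = x * t) :
    SERegular.Cfg G (G ⧸ H) ((1 : G) : G ⧸ H) := by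
  haveI : Fact (Nat.Prime 2) := ⟨Nat.prime_two⟩
  refine cfg_of_se hH hcomm htwo ?_
  rw [← Nat.not_even_iff_odd]
  exact fun h => S.not_dvd_index (h.two_dvd.trans (Subgroup.index_dvd_of_le fun x hx =>
    mem_centralizer_iff.2 fun t ht => hS x hx t ht))

end SE

end Cfsg.Agent.SETrans
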