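import Cfsg.Agent.Lib.Involutions.SwapCount
import Cfsg.Agent.Lib.Solvable.Coprime
import Mathlib.GroupTheory.GroupAction.MultipleTransitivity
import Mathlib.GroupTheory.GroupAction.Quotient

/-!
# Transitive groups in which involutions fix one point and the involutions fixing a point commute

Such groups have a strongly embedded point stabiliser whose involutions generate an abelian subgroup.
This file contains the swapping involutions and the elements inverted by them.
-/

set_option autoImplicit false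
set_option linter.unusedSectionVars false

namespace Cfsg.Agent.SETrans

open MulAction

variable {G Ω : Type*} [Group G] [MulAction G Ω] {a : Ω}

/-- Involutions fix at most one point, those fixing `a` commute, and there are two of them. -/
structure Hyp (G Ω : Type*) [Group G] [MulAction G Ω] (a : Ω) : Prop where
  fix_unique : ∀ t : G, orderOf t = 2 → ∀ x y : Ω, t • x = x → t • y = y → x = y
  comm : ∀ s t : G, orderOf s = 2 → orderOf t = 2 → s • a = a → t • a = a → s * t = t * s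
  two : ∃ s t : G, orderOf s = 2 ∧ orderOf t = 2 ∧ s ≠ t ∧ s • a = a ∧ t • a = a

/-- Involutions fix at most one point, there are two at `a`, and a nontrivial element of odd order inverted by
an involution and fixing the point of this involution fixes no other point. -/
structure Weak (G Ω : Type*) [Group G] [MulAction G Ω] (a : Ω) : Prop where
  fix_unique : ∀ t : G, orderOf t = 2 → ∀ x y : Ω, t • x = x → t • y = y → x = y
  lonely : ∀ t k : G, ∀ c x : Ω, orderOf t = 2 → t * k * t⁻¹ = k⁻¹ → Odd (orderOf k) → k ≠ 1 →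
    t • c = c → k • c = c → k • x = x → x = c
  two : ∃ s t : G, orderOf s = 2 ∧ orderOf t = 2 ∧ s ≠ t ∧ s • a = a ∧ t • a = a

/-- A nontrivial element of odd order, inverted by an involution moving some fixed point of it. -/
def Mov (G Ω : Type*) [Group G] [MulAction G Ω] (k : G) : Prop :=
  k ≠ 1 ∧ Odd (orderOf k) ∧ ∃ (t : G) (x : Ω),
    orderOf t = 2 ∧ t * k * t⁻¹ = k⁻¹ ∧ k • x = x ∧ t • x ≠ x

/-- The involutions mapping `x` to `y`. -/
abbrev Swap (G : Type*) {Ω : Type*} [Group G] [MulAction G Ω] (x y : Ω) : Type _ :=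
  {t : G // orderOf t = 2 ∧ t • x = y}

theorem Mov.conj {k : G} (hk : Mov G Ω k) (g : G) : Mov G Ω (g * k * g⁻¹) := by
  obtain ⟨h1, h2, t, x, ht, htk, hx, htx⟩ := hk
  refine ⟨fun e => h1 ?_, by rwa [Invol.order_conj], g * t * g⁻¹, g • x,
    by rw [Invol.order_conj, ht], ?_, by rw [mul_smul, mul_smul, inv_smul_smul, hx],
    fun e => htx (MulAction.injective g (by rwa [mul_smul, mul_smul, inv_smul_smul] at e))⟩
  · simpa using e
  · calc g * t * g⁻¹ * (g * k * g⁻¹) * (g * t * g⁻¹)⁻¹ = g * (t * k * t⁻¹) * g⁻¹ := by group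
      _ = (g * k * g⁻¹)⁻¹ := by rw [htk]; group

variable [Finite G] [IsPretransitive G Ω]

theorem finite_points (G : Type*) {Ω : Type*} [Group G] [MulAction G Ω] [Finite G] [IsPretransitive G Ω] (a : Ω) :
    Finite Ω :=
  Finite.of_surjective (fun g : G => g • a) (MulAction.surjective_smul G a)

variable [Nontrivial Ω]

namespace Weak

theorem se (h : Weak G Ω a) : Cfsg.IsStronglyEmbedded (stabilizer G a) := by
  refine ⟨fun e => ?_, ?_, fun g hg => ?_⟩
  · obtain ⟨x, hx⟩ := exists_ne a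
    obtain ⟨g, rfl⟩ := exists_smul_eq G a x
    exact hx (mem_stabilizer_iff.1 (e ▸ Subgroup.mem_top g))
  · obtain ⟨s, t, hs, ht, -, hsa, -⟩ := h.two
    exact Invol.even_of_invol_mem hs hsa
  · rw [← Nat.not_even_iff_odd]
    intro he
    obtain ⟨t, ht, ht2⟩ := Invol.exists_invol he
    obtain ⟨h1, h2⟩ := Subgroup.mem_inf.1 ht
    rw [← stabilizer_smul_eq_stabilizer_map_conj] at h2
    exact hg (mem_stabilizer_iff.2 (h.fix_unique t ht2 _ _ h1 h2).symm)

omit [Finite G] [IsPretransitive G Ω] [Nontrivial Ω] in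
theorem mk_smul_eq {t g g' : G} :
    t • (g : G ⧸ stabilizer G a) = (g' : G ⧸ stabilizer G a) ↔ t • g • a = g' • a := by
  rw [MulAction.Quotient.smul_mk, smul_eq_mul, eq_comm, QuotientGroup.eq, mem_stabilizer_iff,
    mul_smul, inv_smul_eq_iff, mul_smul]

theorem exists_fix (h : Weak G Ω a) {t : G} (ht : orderOf t = 2) : ∃ x : Ω, t • x = x := by
  obtain ⟨z, hz⟩ := Invol.se_exists_fix h.se ht
  obtain ⟨g, rfl⟩ := QuotientGroup.mk_surjective z
  exact ⟨g • a, mk_smul_eq.1 hz⟩

theorem card_swap (h : Weak G Ω a) {x y : Ω} (hxy : x ≠ y) :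
    Nat.card (Swap G x y) = Nat.card {t : G // orderOf t = 2 ∧ t • a = a} := by
  obtain ⟨g, rfl⟩ := exists_smul_eq G a x
  obtain ⟨g', rfl⟩ := exists_smul_eq G a y
  have hne : (g : G ⧸ stabilizer G a) ≠ (g' : G ⧸ stabilizer G a) := fun e => hxy (by
    have h1 : (1 : G) • (g : G ⧸ stabilizer G a) = g' := by rwa [one_smul]
    simpa using mk_smul_eq.1 h1)
  refine (Nat.card_congr (Equiv.subtypeEquivRight fun t => ?_)).trans
    ((Invol.card_swapInv h.se hne).trans (Nat.card_congr (Equiv.subtypeEquivRight fun t => Iff.rfl)))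
  rw [mk_smul_eq]

theorem one_lt_card (h : Weak G Ω a) : 1 < Nat.card {t : G // orderOf t = 2 ∧ t • a = a} := by
  obtain ⟨s, t, hs, ht, hne, hsa, hta⟩ := h.two
  exact Finite.one_lt_card_iff_nontrivial.2
    ⟨⟨s, hs, hsa⟩, ⟨t, ht, hta⟩, fun e => hne (congrArg Subtype.val e)⟩

theorem exists_swap (h : Weak G Ω a) {x y : Ω} (hxy : x ≠ y) :
    ∃ t : G, orderOf t = 2 ∧ t • x = y := by
  have h1 : 0 < Nat.card (Swap G x y) := by
    rw [h.card_swap hxy]; exact lt_trans one_pos h.one_lt_card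
  obtain ⟨⟨t, ht⟩⟩ := (Nat.card_pos_iff.1 h1).1
  exact ⟨t, ht⟩

/-- Two-point stabilisers have odd order. -/
theorem odd_pair (h : Weak G Ω a) {x y : Ω} (hxy : x ≠ y) :
    Odd (Nat.card ↥(stabilizer G x ⊓ stabilizer G y)) := by
  rw [← Nat.not_even_iff_odd]
  intro he
  obtain ⟨t, ht, ht2⟩ := Invol.exists_invol he
  exact hxy (h.fix_unique t ht2 x y (Subgroup.mem_inf.1 ht).1 (Subgroup.mem_inf.1 ht).2)

omit [Finite G] [IsPretransitive G Ω] [Nontrivial Ω] in
theorem swap_back {t : G} (ht : orderOf t = 2) {x y : Ω} (hxy : t • x = y) : t • y = x := by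
  rw [← hxy, ← mul_smul, Invol.mul_self ht, one_smul]

omit [Finite G] [IsPretransitive G Ω] [Nontrivial Ω] in
theorem swap_pair {t : G} (ht : orderOf t = 2) {x y : Ω} (hxy : t • x = y) {d : G}
    (hd : d ∈ stabilizer G x ⊓ stabilizer G y) :
    t * d * t⁻¹ ∈ stabilizer G x ⊓ stabilizer G y := by
  obtain ⟨h1, h2⟩ := Subgroup.mem_inf.1 hd
  rw [mem_stabilizer_iff] at h1 h2
  refine Subgroup.mem_inf.2 ⟨?_, ?_⟩ <;>
    rw [mem_stabilizer_iff, mul_smul, mul_smul, Invol.inv_self ht]
  · rw [hxy, h2, swap_back ht hxy]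
  · rw [swap_back ht hxy, h1, hxy]

omit [Finite G] [IsPretransitive G Ω] [Nontrivial Ω] in
theorem swap_normalizer {t : G} (ht : orderOf t = 2) {x y : Ω} (hxy : t • x = y) :
    t ∈ Subgroup.normalizer ((stabilizer G x ⊓ stabilizer G y : Subgroup G) : Set G) := by
  rw [Subgroup.mem_normalizer_iff]
  refine fun d => ⟨swap_pair ht hxy, fun hd => ?_⟩
  have h1 := swap_pair ht hxy hd
  rwa [Invol.inv_self ht,
    show t * (t * d * t) * t = t * t * d * (t * t) by group, Invol.mul_self ht, one_mul, mul_one] at h1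

/-- The point of an involution is not fixed by an element it inverts, if this fixes another point. -/
theorem centre_moved (h : Weak G Ω a) {t k : G} (ht : orderOf t = 2) (hinv : t * k * t⁻¹ = k⁻¹)
    (hk : Odd (orderOf k)) (hk1 : k ≠ 1) {c x : Ω} (hc : t • c = c) (hx : k • x = x) (htx : t • x ≠ x) :
    k • c ≠ c :=
  fun hkc => htx (by rw [h.lonely t k c x ht hinv hk hk1 hc hkc hx, hc])

/-- No involution centralises an element `Mov`. -/
theorem no_invol (h : Weak G Ω a) {k v : G} (hk : Mov G Ω k) (hv : orderOf v = 2)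
    (hvk : v * k = k * v) : False := by
  obtain ⟨hk1, hko, t, x, ht, htk, hx, htx⟩ := hk
  obtain ⟨e, he⟩ := h.exists_fix hv
  obtain ⟨c, hc⟩ := h.exists_fix ht
  have hke : k • e = e :=
    h.fix_unique v hv _ _ (by rw [← mul_smul, hvk, mul_smul, he]) he
  have hne : e ≠ c := fun e' => h.centre_moved ht htk hko hk1 hc hx htx (e' ▸ hke)
  have hodd : Odd (orderOf (v * t)) := by
    rw [← Nat.not_even_iff_odd]
    intro hev
    have hz := Invol.half_order hv ht hev (orderOf_pos _)
    have hcm := Invol.half_commute hv ht hev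
    set z := (v * t) ^ (orderOf (v * t) / 2)
    refine hne (h.fix_unique z hz e c ?_ ?_)
    · refine h.fix_unique v hv _ _ ?_ he
      rw [← mul_smul, hcm.1.symm.eq, mul_smul, he]
    · refine h.fix_unique t ht _ _ ?_ hc
      rw [← mul_smul, hcm.2.symm.eq, mul_smul, hc]
  obtain ⟨d, hd, hdv⟩ := Invol.conj_of_odd hv ht hodd
  have hsign : d * k * d⁻¹ = k ∨ d * k * d⁻¹ = k⁻¹ := by
    clear hdv
    induction hd using Subgroup.closure_induction with
    | mem x hx =>
      rcases hx with rfl | rfl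
      · left; rw [hvk, mul_inv_cancel_right]
      · exact Or.inr htk
    | one => left; group
    | mul x y _ _ hx hy =>
      rw [show x * y * k * (x * y)⁻¹ = x * (y * k * y⁻¹) * x⁻¹ by group]
      rcases hy with hy | hy <;> rw [hy]
      · exact hx
      · rw [show x * k⁻¹ * x⁻¹ = (x * k * x⁻¹)⁻¹ by group]
        rcases hx with hx | hx <;> rw [hx]
        · exact Or.inr rfl
        · left; rw [inv_inv]
    | inv x _ hx =>
      rcases hx with hx | hx
      · left
        calc x⁻¹ * k * x⁻¹⁻¹ = x⁻¹ * (x * k * x⁻¹) * x := by rw [hx, inv_inv]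
          _ = k := by group
      · right
        calc x⁻¹ * k * x⁻¹⁻¹ = x⁻¹ * (x * k * x⁻¹)⁻¹ * x := by rw [hx, inv_inv, inv_inv]
          _ = k⁻¹ := by group
  have htkc : t * k = k * t := by
    rw [← hdv]
    rcases hsign with hs | hs
    · calc d * v * d⁻¹ * k = d * v * d⁻¹ * (d * k * d⁻¹) := by rw [hs]
        _ = d * (v * k) * d⁻¹ := by group
        _ = d * k * d⁻¹ * (d * v * d⁻¹) := by rw [hvk]; group
        _ = k * (d * v * d⁻¹) := by rw [hs]
    · have hi : d * k⁻¹ * d⁻¹ = k := by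
        rw [show d * k⁻¹ * d⁻¹ = (d * k * d⁻¹)⁻¹ by group, hs, inv_inv]
      have hvk' : v * k⁻¹ = k⁻¹ * v := (Commute.inv_right hvk).eq
      calc d * v * d⁻¹ * k = d * v * d⁻¹ * (d * k⁻¹ * d⁻¹) := by rw [hi]
        _ = d * (v * k⁻¹) * d⁻¹ := by group
        _ = d * k⁻¹ * d⁻¹ * (d * v * d⁻¹) := by rw [hvk']; group
        _ = k * (d * v * d⁻¹) := by rw [hi]
  rw [htkc, mul_inv_cancel_right] at htk
  exact hk1 (Invol.eq_one_of_sq_of_odd hko (by
    rw [pow_two]; nth_rewrite 1 [htk]; exact inv_mul_cancel k))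

/-- The centraliser of an element `Mov` has odd order. -/
theorem odd_centralizer (h : Weak G Ω a) {k : G} (hk : Mov G Ω k) :
    Odd (Nat.card ↥(Subgroup.centralizer ({k} : Set G))) := by
  rw [← Nat.not_even_iff_odd]
  intro he
  obtain ⟨v, hv, hv2⟩ := Invol.exists_invol he
  exact h.no_invol hk hv2 (Subgroup.mem_centralizer_singleton_iff.1 hv)

/-- `|D| = |C_D(t)| * m` for a two-point stabiliser `D` and a swapper `t`. -/
theorem card_pair (h : Weak G Ω a) {x y : Ω} (hxy : x ≠ y) {t : G} (ht : orderOf t = 2)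
    (htx : t • x = y) :
    Nat.card ↥(stabilizer G x ⊓ stabilizer G y) =
      Nat.card ↥(stabilizer G x ⊓ stabilizer G y ⊓ Subgroup.centralizer ({t} : Set G)) *
        Nat.card {s : G // orderOf s = 2 ∧ s • a = a} := by
  classical
  set D := stabilizer G x ⊓ stabilizer G y with hD
  set W := D ⊓ Subgroup.centralizer ({t} : Set G) with hW
  have hmem : ∀ d : D, orderOf ((d : G) * t * (d : G)⁻¹) = 2 ∧ ((d : G) * t * (d : G)⁻¹) • x = y :=
    fun d => ⟨by rw [Invol.order_conj, ht], by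
      obtain ⟨h1, h2⟩ := Subgroup.mem_inf.1 d.2
      rw [mem_stabilizer_iff] at h1 h2
      rw [mul_smul, mul_smul, inv_smul_eq_iff.2 h1.symm, htx, h2]⟩
  let f : D → Swap G x y := fun d => ⟨(d : G) * t * (d : G)⁻¹, hmem d⟩
  have hrel : ∀ d e : D, d⁻¹ * e ∈ W.subgroupOf D ↔ f d = f e := by
    intro d e
    rw [Subgroup.mem_subgroupOf, Subgroup.coe_mul, Subgroup.coe_inv, hW, Subgroup.mem_inf,
      Subgroup.mem_centralizer_singleton_iff]
    refine ⟨fun ⟨_, hc⟩ => Subtype.ext ?_, fun he => ⟨mul_mem (inv_mem d.2) e.2, ?_⟩⟩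
    · show (d : G) * t * (d : G)⁻¹ = (e : G) * t * (e : G)⁻¹
      calc (d : G) * t * (d : G)⁻¹ = d * (t * ((d : G)⁻¹ * e)) * (e : G)⁻¹ := by group
        _ = d * ((d : G)⁻¹ * e * t) * (e : G)⁻¹ := by rw [hc]
        _ = _ := by group
    · have he' : (d : G) * t * (d : G)⁻¹ = (e : G) * t * (e : G)⁻¹ := congrArg Subtype.val he
      calc (d : G)⁻¹ * e * t = (d : G)⁻¹ * ((e : G) * t * (e : G)⁻¹) * e := by group
        _ = t * ((d : G)⁻¹ * e) := by rw [← he']; group
  let F : D ⧸ W.subgroupOf D → Swap G x y := Quotient.lift f fun d e hde =>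
    (hrel d e).1 (QuotientGroup.leftRel_apply.1 hde)
  have hbij : Function.Bijective F := by
    refine ⟨fun p q => Quotient.inductionOn₂ p q fun d e hde =>
      Quotient.sound (QuotientGroup.leftRel_apply.2 ((hrel d e).2 hde)), fun w => ?_⟩
    obtain ⟨w, hw, hwx⟩ := w
    set k := t * w with hk
    have hkD : k ∈ D := Subgroup.mem_inf.2
      ⟨by rw [mem_stabilizer_iff, mul_smul, hwx, swap_back ht htx],
       by rw [mem_stabilizer_iff, mul_smul, swap_back hw hwx, htx]⟩
    obtain ⟨r, hr⟩ := Invol.exists_sqrt ((h.odd_pair hxy).of_dvd_nat (Subgroup.orderOf_dvd_natCard D hkD))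
    have hinv : t * k * t⁻¹ = k⁻¹ := by rw [hk]; exact Invol.conj_mul ht hw
    refine ⟨QuotientGroup.mk (⟨(k ^ r)⁻¹, inv_mem (pow_mem hkD r)⟩ : D), Subtype.ext ?_⟩
    show (k ^ r)⁻¹ * t * (k ^ r)⁻¹⁻¹ = w
    rw [inv_inv, ← Invol.conj_pow hinv r, Invol.inv_self ht]
    calc t * k ^ r * t * t * k ^ r = t * (k ^ r * (t * t) * k ^ r) := by group
      _ = t * (k ^ r) ^ 2 := by rw [Invol.mul_self ht, mul_one, pow_two]
      _ = w := by rw [hr, hk, ← mul_assoc, Invol.mul_self ht, one_mul]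
  rw [Subgroup.card_eq_card_quotient_mul_card_subgroup (W.subgroupOf D), Nat.card_eq_of_bijective F hbij,
    h.card_swap hxy, Nat.card_congr (Subgroup.subgroupOfEquivOfLe (inf_le_left : W ≤ D)).toEquiv,
    mul_comm]

/-- For a prime divisor `l` of the number of involutions at a point, every two-point stabiliser contains an
element `Mov` of `l`-power order. -/
theorem exists_mov (h : Weak G Ω a) {l : ℕ} [hl : Fact l.Prime]
    (hdvd : l ∣ Nat.card {s : G // orderOf s = 2 ∧ s • a = a}) {x y : Ω} (hxy : x ≠ y) :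
    ∃ k ∈ stabilizer G x ⊓ stabilizer G y, Mov G Ω k ∧ IsPGroup l (Subgroup.zpowers k) := by
  classical
  obtain ⟨t, ht, htx⟩ := h.exists_swap hxy
  set D := stabilizer G x ⊓ stabilizer G y with hD
  have hA : Subgroup.zpowers t ≤ Subgroup.normalizer (D : Set G) :=
    Subgroup.zpowers_le.2 (swap_normalizer ht htx)
  have hcop : (Nat.card (Subgroup.zpowers t)).Coprime (Nat.card D) := by
    rw [Nat.card_zpowers, ht]; exact Nat.coprime_two_left.2 (h.odd_pair hxy)
  obtain ⟨P, hP⟩ := CoprimeAct.exists_invariant_sylow hA hcop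
    (Or.inl (Group.isSolvable_of_comm fun u v => mul_comm' u v)) l
  by_cases hall : ∀ p ∈ (P : Subgroup D), (p : G) * t = t * p
  · exfalso
    set W := D ⊓ Subgroup.centralizer ({t} : Set G) with hW
    have hle : (P : Subgroup D) ≤ W.subgroupOf D := fun p hp => by
      rw [Subgroup.mem_subgroupOf, hW, Subgroup.mem_inf, Subgroup.mem_centralizer_singleton_iff]
      exact ⟨p.2, hall p hp⟩
    have h1 : Nat.card P ∣ Nat.card W := (Subgroup.card_dvd_of_le hle).trans
      (Nat.card_congr (Subgroup.subgroupOfEquivOfLe (inf_le_left : W ≤ D)).toEquiv ▸ dvd_rfl)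
    have h2 : Nat.card P * l ∣ Nat.card D := by
      rw [h.card_pair hxy ht htx]; exact mul_dvd_mul h1 hdvd
    rw [Sylow.card_eq_multiplicity, ← pow_succ] at h2
    exact Nat.pow_succ_factorization_not_dvd Nat.card_pos.ne' hl.out h2
  push Not at hall
  obtain ⟨p, hp, hpt⟩ := hall
  set k := (p : G)⁻¹ * (t * p * t⁻¹) with hk
  have hmem : k ∈ (P : Subgroup D).map D.subtype := mul_mem (inv_mem ⟨p, hp, rfl⟩)
    ((Subgroup.mem_normalizer_iff.1 (hP (Subgroup.mem_zpowers t)) _).1 ⟨p, hp, rfl⟩)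
  have hkD : k ∈ D := Subgroup.map_subtype_le _ hmem
  refine ⟨k, hkD, ⟨fun e => hpt ?_, (h.odd_pair hxy).of_dvd_nat (Subgroup.orderOf_dvd_natCard D hkD),
    t, x, ht, ?_, (Subgroup.mem_inf.1 hkD).1, fun e => hxy (e.symm.trans htx)⟩,
    (P.isPGroup'.map D.subtype).to_le (Subgroup.zpowers_le.2 hmem)⟩
  · rw [hk, inv_mul_eq_one] at e
    nth_rewrite 1 [e]
    group
  · rw [hk, mul_inv_rev, inv_inv, Invol.inv_self ht]
    calc t * ((p : G)⁻¹ * (t * p * t)) * t = t * (p : G)⁻¹ * t * p * (t * t) := by group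
      _ = (t * p * t)⁻¹ * p := by
        rw [Invol.mul_self ht, mul_one, mul_inv_rev, mul_inv_rev, Invol.inv_self ht]; group

end Weak

namespace Hyp

theorem weak (h : Hyp G Ω a) : Weak G Ω a := by
  refine ⟨h.fix_unique, fun t k c x ht hinv hk hk1 hc hkc hx => ?_, h.two⟩
  exfalso
  have h2 : t * k * (t * k) = 1 := by
    calc t * k * (t * k) = (t * k * t) * k := by group
      _ = 1 := by rw [Invol.inv_self ht] at hinv; rw [hinv, inv_mul_cancel]
  have h1 : t * k ≠ 1 := fun e => by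
    rw [show k = t by rw [← inv_eq_of_mul_eq_one_right e, Invol.inv_self ht], ht] at hk
    exact absurd hk (by decide)
  obtain ⟨g, rfl⟩ := exists_smul_eq G a c
  have hcomm : t * (t * k) = t * k * t := by
    have key := h.comm (g⁻¹ * t * g) (g⁻¹ * (t * k) * g)
      (by rw [show g⁻¹ * t * g = g⁻¹ * t * g⁻¹⁻¹ by group, Invol.order_conj, ht])
      (by rw [show g⁻¹ * (t * k) * g = g⁻¹ * (t * k) * g⁻¹⁻¹ by group, Invol.order_conj,
        Invol.order_two_of_sq h2 h1])
      (by rw [mul_smul, mul_smul, hc, inv_smul_smul])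
      (by rw [mul_smul, mul_smul, mul_smul, hkc, hc, inv_smul_smul])
    calc t * (t * k) = g * (g⁻¹ * t * g * (g⁻¹ * (t * k) * g)) * g⁻¹ := by group
      _ = g * (g⁻¹ * (t * k) * g * (g⁻¹ * t * g)) * g⁻¹ := by rw [key]
      _ = t * k * t := by group
  have e : k = k⁻¹ := by
    calc k = t * t * k := by rw [Invol.mul_self ht, one_mul]
      _ = t * (t * k) := by group
      _ = t * k * t := hcomm
      _ = k⁻¹ := by rw [Invol.inv_self ht] at hinv; exact hinv
  exact hk1 (Invol.eq_one_of_sq_of_odd hk (by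
    rw [pow_two]; nth_rewrite 1 [e]; exact inv_mul_cancel k))

theorem se (h : Hyp G Ω a) : Cfsg.IsStronglyEmbedded (stabilizer G a) := h.weak.se

theorem exists_fix (h : Hyp G Ω a) {t : G} (ht : orderOf t = 2) : ∃ x : Ω, t • x = x := h.weak.exists_fix ht

theorem exists_swap (h : Hyp G Ω a) {x y : Ω} (hxy : x ≠ y) : ∃ t : G, orderOf t = 2 ∧ t • x = y :=
  h.weak.exists_swap hxy

theorem comm_at (h : Hyp G Ω a) {s t : G} (hs : orderOf s = 2) (ht : orderOf t = 2) {x : Ω}
    (hsx : s • x = x) (htx : t • x = x) : s * t = t * s := by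
  obtain ⟨g, rfl⟩ := exists_smul_eq G a x
  have key := h.comm (g⁻¹ * s * g) (g⁻¹ * t * g)
    (by rw [show g⁻¹ * s * g = g⁻¹ * s * g⁻¹⁻¹ by group, Invol.order_conj, hs])
    (by rw [show g⁻¹ * t * g = g⁻¹ * t * g⁻¹⁻¹ by group, Invol.order_conj, ht])
    (by rw [mul_smul, mul_smul, hsx, inv_smul_smul]) (by rw [mul_smul, mul_smul, htx, inv_smul_smul])
  calc s * t = g * (g⁻¹ * s * g * (g⁻¹ * t * g)) * g⁻¹ := by group
    _ = g * (g⁻¹ * t * g * (g⁻¹ * s * g)) * g⁻¹ := by rw [key]
    _ = t * s := by group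

end Hyp

end Cfsg.Agent.SETrans
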